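import Groth.Agent.AlgSp2.Serre.Main
import Groth.Agent.ModEtQCoh.PushQCoh
import Groth.Agent.ModEtQCoh.ClosedPush
import Groth.Agent.ModEtQCoh.EpiLocSurj
import Mathlib.Algebra.Homology.DerivedCategory.Ext.ExactSequences
import Mathlib.Algebra.Homology.ShortComplex.ExactFunctor

/-!
# Functions extend from closed subspaces when the first cohomology vanishes
-/

set_option autoImplicit false
set_option linter.unusedSectionVars false
set_option linter.style.haveILetI false
set_option backward.isDefEq.respectTransparency.types false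
universe u

open CategoryTheory CategoryTheory.Limits AlgebraicGeometry Opposite AlgSp
open TensorProduct

namespace Groth.AlgSp2.Serre

open Groth.AlgSpBasic Groth.ModEtQCoh

noncomputable section

variable {S : Scheme.{u}} {X : Sp S}

theorem hasBC_unit (X : Sp S) : HasBC (unitModEt X) := by
  intro E E' _ _ g
  let := (resA g).toAlgebra
  let one : sectModEt (unitModEt X) E := ULift.up (1 : fnA E)
  have hval : ∀ b : fnA E', bcLift (resM (unitModEt X) g) (b ⊗ₜ[fnA E] one) = ULift.up b := fun b => by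
    rw [bcLift_tmul]
    show (ULift.up (b * resA g 1) : ULift.{u + 1} (fnA E')) = _
    rw [map_one, mul_one]
  have hone : ∀ z : Tens (resA g) (sectModEt (unitModEt X) E), ∃ b : fnA E', z = b ⊗ₜ[fnA E] one := by
    intro z
    induction z using TensorProduct.induction_on with
    | zero => exact ⟨0, (zero_tmul _ _).symm⟩
    | tmul b n =>
      refine ⟨(ULift.down n : fnA E) • b, ?_⟩
      have hn : n = (ULift.down n : fnA E) • one := by
        show n = (ULift.up ((ULift.down n : fnA E) * 1) : ULift.{u + 1} (fnA E))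
        rw [mul_one]
        rfl
      conv_lhs => rw [hn]
      rw [TensorProduct.smul_tmul]
    | add x y hx hy =>
      obtain ⟨a, rfl⟩ := hx
      obtain ⟨b, rfl⟩ := hy
      exact ⟨a + b, (add_tmul _ _ _).symm⟩
  refine ⟨fun z z' h => ?_, fun s => ⟨s.down ⊗ₜ[fnA E] one, hval s.down⟩⟩
  obtain ⟨b, rfl⟩ := hone z
  obtain ⟨b', rfl⟩ := hone z'
  rw [hval, hval] at h
  rw [show b = b' from ULift.up_injective h]

/-- Global sections lift along an extension by a module with vanishing first cohomology. -/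
theorem exists_lift_globalSection {C : ShortComplex (ModEt X)} (hC : C.ShortExact)
    (h1 : Subsingleton (HModEt X C.X₁ 1)) (s : ∀ E, sectModEt C.X₃ E)
    (hs : ∀ {E E' : EtOver X} (g : E' ⟶ E), resM C.X₃ g (s E) = s E') :
    ∃ t : ∀ E, sectModEt C.X₂ E, (∀ {E E' : EtOver X} (g : E' ⟶ E), resM C.X₂ g (t E) = t E') ∧
      ∀ E, appM C.g E (t E) = s E := by
  have : PreservesFiniteColimits (toAbEt X) := preservesFiniteColimits_toSheaf _
  have hS : (C.map (toAbEt X)).ShortExact := hC.map_of_exact (toAbEt X)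
  let A : AddCommGrpCat.{u + 1} := AddCommGrpCat.of (ULift.{u + 1} ℤ)
  let adj := sheafificationAdjunction (etTop X) AddCommGrpCat.{u + 1}
  let η : (Functor.const (EtOver X)ᵒᵖ).obj A ⟶ ((toAbEt X).obj C.X₃).obj :=
    { app := fun E => AddCommGrpCat.ofHom ((zmultiplesHom _ (s E.unop)).comp
        (AddEquiv.ulift : ULift.{u + 1} ℤ ≃+ ℤ).toAddMonoidHom)
      naturality := fun E E' g => by
        ext n
        show n.down • s E'.unop = resM C.X₃ g.unop (n.down • s E.unop)
        rw [map_zsmul, hs] }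
  let φ : (constantSheaf (etTop X) AddCommGrpCat.{u + 1}).obj A ⟶ (toAbEt X).obj C.X₃ :=
    (adj.homEquiv _ _).symm η
  obtain ⟨x₂, hx₂⟩ := Abelian.Ext.covariant_sequence_exact₃ _ hS (Abelian.Ext.mk₀ φ) (zero_add 1)
    (h1.elim _ _)
  let φ₂ := Abelian.Ext.homEquiv₀ x₂
  have hφ : φ₂ ≫ (toAbEt X).map C.g = φ := by
    apply (Abelian.Ext.mk₀_bijective _ _).1
    rw [← Abelian.Ext.mk₀_comp_mk₀, Abelian.Ext.mk₀_homEquiv₀_apply]
    exact hx₂
  let η₂ := adj.homEquiv _ _ φ₂
  have hη : η₂ ≫ ((sheafToPresheaf _ _).map ((toAbEt X).map C.g)) = η := by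
    exact (adj.homEquiv_naturality_right φ₂ _).symm.trans
      ((congrArg _ hφ).trans (Equiv.apply_symm_apply _ _))
  refine ⟨fun E => η₂.app (op E) ⟨1⟩, fun {E E'} g => ?_, fun E => ?_⟩
  · exact (congr($(η₂.naturality g.op) ⟨1⟩)).symm
  · exact (congr($(NatTrans.congr_app hη (op E)) ⟨1⟩)).trans (one_zsmul _)

theorem bc_hom_ext {Y : Sp S} {g : Y ⟶ X} (hg : Representable g) {E : EtOver X} {T : Over S}
    {a b : T ⟶ (EtOver.bcObj hg E).obj.left}
    (h₁ : (yon S).map a ≫ (EtOver.bcObj hg E).obj.hom = (yon S).map b ≫ (EtOver.bcObj hg E).obj.hom)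
    (h₂ : a ≫ EtOver.bcπ hg E = b ≫ EtOver.bcπ hg E) : a = b :=
  hg.hom_ext h₁ h₂

theorem bcMap_π {Y : Sp S} {g : Y ⟶ X} (hg : Representable g) {E E' : EtOver X} (m : E' ⟶ E) :
    (EtOver.bcMap hg m).hom.left ≫ EtOver.bcπ hg E = EtOver.bcπ hg E' ≫ m.hom.left :=
  EtOver.bcMap_snd hg m

section Pushforward

variable {Y Z : Sp S} {g : Y ⟶ X} (hg : Representable g) {q : Z ⟶ X} (hq : Representable q)
  {i : Z ⟶ Y} (hi : i ≫ g = q)

include hi in
theorem exists_bcLift (E : EtOver X) :
    ∃ k : (EtOver.bcObj hq E).obj.left ⟶ (EtOver.bcObj hg E).obj.left,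
      (yon S).map k ≫ (EtOver.bcObj hg E).obj.hom = (EtOver.bcObj hq E).obj.hom ≫ i ∧
      k ≫ EtOver.bcπ hg E = EtOver.bcπ hq E := by
  refine ⟨hg.lift ((EtOver.bcObj hq E).obj.hom ≫ i) (EtOver.bcπ hq E) ?_, hg.lift_fst _ _ _,
    hg.lift_snd _ _ _⟩
  rw [Category.assoc, hi]
  exact (EtOver.isPullback_bcObj hq E).w

/-- The comparison of the base changes. -/
def bcLiftMap (E : EtOver X) : (EtOver.bcObj hq E).obj.left ⟶ (EtOver.bcObj hg E).obj.left :=
  (exists_bcLift hg hq hi E).choose

theorem bcLiftMap_fst (E : EtOver X) :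
    (yon S).map (bcLiftMap hg hq hi E) ≫ (EtOver.bcObj hg E).obj.hom =
      (EtOver.bcObj hq E).obj.hom ≫ i :=
  (exists_bcLift hg hq hi E).choose_spec.1

theorem bcLiftMap_snd (E : EtOver X) :
    bcLiftMap hg hq hi E ≫ EtOver.bcπ hg E = EtOver.bcπ hq E :=
  (exists_bcLift hg hq hi E).choose_spec.2

theorem bcLiftMap_comm {E E' : EtOver X} (m : E' ⟶ E) :
    (EtOver.bcMap hq m).hom.left ≫ bcLiftMap hg hq hi E =
      bcLiftMap hg hq hi E' ≫ (EtOver.bcMap hg m).hom.left := by
  refine bc_hom_ext hg ?_ ?_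
  · rw [Functor.map_comp, Functor.map_comp, Category.assoc, Category.assoc, bcLiftMap_fst,
      EtOver.w (EtOver.bcMap hg m), bcLiftMap_fst, ← Category.assoc, EtOver.w (EtOver.bcMap hq m)]
  · exact (Category.assoc _ _ _).trans
      ((congrArg ((EtOver.bcMap hq m).hom.left ≫ ·) (bcLiftMap_snd hg hq hi E)).trans
      ((bcMap_π hq m).trans ((congrArg (· ≫ m.hom.left) (bcLiftMap_snd hg hq hi E')).symm.trans
      ((Category.assoc _ _ _).trans ((congrArg (bcLiftMap hg hq hi E' ≫ ·) (bcMap_π hg m)).symm.trans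
      (Category.assoc _ _ _).symm)))))

/-- Restriction of functions to a subspace, as a map of direct images. -/
def restrictFn : (pushModEt hg).obj (unitModEt Y) ⟶ (pushModEt hq).obj (unitModEt Z) :=
  ⟨{ app := fun W => ModuleCat.ofHom
      (X := ((pushModEt hg).obj (unitModEt Y)).val.obj W)
      (Y := ((pushModEt hq).obj (unitModEt Z)).val.obj W)
      { toFun := fun a => ULift.up ((bcLiftMap hg hq hi W.unop).left.appTop (ULift.down a))
        map_add' := fun a b => congrArg ULift.up (map_add _ _ _)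
        map_smul' := fun r a => by
          refine congrArg ULift.up ((map_mul _ _ _).trans (congrArg (· * _) ?_))
          have e : (EtOver.bcπ hg W.unop).left.appTop ≫ (bcLiftMap hg hq hi W.unop).left.appTop =
              (EtOver.bcπ hq W.unop).left.appTop := by
            rw [← Scheme.Hom.comp_appTop]
            exact congrArg (fun k => k.left.appTop) (bcLiftMap_snd hg hq hi W.unop)
          exact congr($e r.down) }
     naturality := fun {W W'} m => by
       refine ModuleCat.hom_ext (LinearMap.ext fun a => congrArg ULift.up ?_)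
       show (bcLiftMap hg hq hi W'.unop).left.appTop ((EtOver.bcMap hg m.unop).hom.left.left.appTop a.down) =
         (EtOver.bcMap hq m.unop).hom.left.left.appTop ((bcLiftMap hg hq hi W.unop).left.appTop a.down)
       rw [← CommRingCat.comp_apply, ← CommRingCat.comp_apply, ← Scheme.Hom.comp_appTop,
         ← Scheme.Hom.comp_appTop, ← Over.comp_left, ← Over.comp_left, bcLiftMap_comm] }⟩

theorem appM_restrictFn (E : EtOver X) (a : sectModEt ((pushModEt hg).obj (unitModEt Y)) E) :
    appM (restrictFn hg hq hi) E a = ULift.up ((bcLiftMap hg hq hi E).left.appTop (ULift.down a)) :=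
  rfl

end Pushforward

theorem P_hom_ext {D : CommRingCat.{u}} {a b : P.{u} ⟶ D}
    (h : a (Polynomial.X : Polynomial (ULift.{u} ℤ)) = b (Polynomial.X : Polynomial (ULift.{u} ℤ))) :
    a = b := by
  refine CommRingCat.hom_ext (Polynomial.ringHom_ext (fun n => ?_) h)
  exact RingHom.congr_fun (RingHom.ext_int
    ((a.hom.comp Polynomial.C).comp (ULift.ringEquiv : ULift.{u} ℤ ≃+* ℤ).symm.toRingHom)
    ((b.hom.comp Polynomial.C).comp (ULift.ringEquiv : ULift.{u} ℤ ≃+* ℤ).symm.toRingHom)) n.down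

set_option maxHeartbeats 800000 in
/-- Functions extend from closed subspaces when the first cohomology of quasi-coherent modules
vanishes. -/
theorem hyp_of_h1 (hX : IsAlgSpace X) [QuasiSeparatedSpace S] (hqc : IsQuasiCompactSp X)
    (hqs : IsQuasiSeparatedSp X)
    (h1 : ∀ M : ModEt X, M.IsQuasicoherent → Subsingleton (HModEt X M 1)) : Hyp X := by
  intro Y Z hY g hga i hi z
  have hqa : RepWith @IsAffineHom (i ≫ g) := repWith_comp (repWith_isAffineHom_of_closed hi) hga
  have hg : Representable g := hga.rep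
  have hq : Representable (i ≫ g) := hqa.rep
  have hQ : ∀ {F : Sp S} {k : F ⟶ X} (hk : Representable k) (hka : RepWith @IsAffineHom k),
      HasBC ((pushModEt hk).obj (unitModEt F)) := fun {F k} hk hka => by
    have := isQuasicoherent_of_hasBC (hasBC_unit F)
    have := isQuasicoherent_push hk
      (repWith_mono (fun _ _ f (_ : IsAffineHom f) => (inferInstance : QuasiCompact f)) hka)
      (repWith_mono (fun _ _ f (_ : IsAffineHom f) => (inferInstance : QuasiSeparated f)) hka)
      (unitModEt F)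
    exact hasBC_of_isQuasicoherent _
  let η := restrictFn (i := i) hg hq rfl
  have hepi : Epi η := ⟨fun {N} a b hab => hom_ext_affine' a b fun E _ s => by
    have : IsAffine (EtOver.bcObj hg E).obj.left.left := Groth.ModEtQCoh.isAffine_bc hg hga E
    have hsq : IsPullback (EtOver.bcObj hq E).obj.hom ((yon S).map (bcLiftMap hg hq rfl E)) i
        (EtOver.bcObj hg E).obj.hom := by
      refine IsPullback.of_bot ?_ (bcLiftMap_fst hg hq rfl E).symm (EtOver.isPullback_bcObj hg E)
      rw [← Functor.map_comp, bcLiftMap_snd]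
      exact EtOver.isPullback_bcObj hq E
    have : IsClosedImmersion (bcLiftMap hg hq rfl E).left := hi.property _ _ _ hsq
    obtain ⟨t, ht⟩ := (IsClosedImmersion.isAffine_surjective_of_isAffine
      (f := (bcLiftMap hg hq rfl E).left)).2 (ULift.down s)
    have e : appM η E (ULift.up t) = s := by
      rw [appM_restrictFn]; exact congrArg ULift.up ht
    rw [← e, ← appM_comp, ← appM_comp, hab]⟩
  let C : ShortComplex (ModEt X) := ShortComplex.mk (kernel.ι η) η (kernel.condition η)
  have hC : C.ShortExact :=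
    { exact := ShortComplex.exact_of_f_is_kernel _ (kernelIsKernel η)
      mono_f := inferInstanceAs (Mono (kernel.ι η))
      epi_g := hepi }
  obtain ⟨c⟩ := nonempty_chart hX hqc hqs
  let sZ : ∀ E : EtOver X, sectModEt C.X₃ E := fun E =>
    ULift.up (toΓ ((EtOver.bcObj hq E).obj.hom ≫ z) (Polynomial.X : Polynomial (ULift.{u} ℤ)))
  obtain ⟨t, htres, htg⟩ := exists_lift_globalSection hC
    (h1 _ (isQuasicoherent_of_hasBC (hasBC_kernel (hQ hg hga) (hQ hq hqa) η))) sZ (fun {E E'} m => by
      refine congrArg ULift.up ?_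
      show (EtOver.bcMap hq m).hom.left.left.appTop (toΓ _ _) = _
      rw [← CommRingCat.comp_apply, ← toΓ_comp, ← Category.assoc]
      exact congrArg (fun k => toΓ (k ≫ z) (Polynomial.X : Polynomial (ULift.{u} ℤ)))
        (EtOver.map_bcMap_fst hq m))
  let EU : EtOver X := EtOver.mk c.φ c.et
  let YU := (EtOver.bcObj hg EU).obj.left
  let φY : (yon S).obj YU ⟶ Y := (EtOver.bcObj hg EU).obj.hom
  have hφe : RepWith @Etale φY :=
    repWith_of_isPullback (EtOver.isPullback_bcObj hg EU).flip c.et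
  have hφs : RepWith @Surjective φY :=
    repWith_of_isPullback (EtOver.isPullback_bcObj hg EU).flip c.surj
  let yU : (yon S).obj YU ⟶ (K S).obj (op P.{u}) := toΓ.symm (evP (ULift.down (t EU)))
  obtain ⟨y, hy⟩ := exists_desc_of_etale φY hφe hφs yU fun T a b e => by
    obtain ⟨a, rfl⟩ := (yon S).map_surjective a
    obtain ⟨b, rfl⟩ := (yon S).map_surjective b
    obtain ⟨R, p₁, p₂, sq⟩ := exists_pullback_of_diag hX.diag c.φ c.φ
    have hRe : RepWith @Etale ((yon S).map p₁ ≫ c.φ) :=
      repWith_comp (repWith_of_isPullback sq.flip c.et) c.et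
    let ER : EtOver X := EtOver.mk ((yon S).map p₁ ≫ c.φ) hRe
    let π₁ : ER ⟶ EU := EtOver.homMk p₁ rfl
    let π₂ : ER ⟶ EU := EtOver.homMk p₂ sq.w.symm
    have hab : (yon S).map (a ≫ EtOver.bcπ hg EU) ≫ c.φ = (yon S).map (b ≫ EtOver.bcπ hg EU) ≫ c.φ := by
      rw [Functor.map_comp, Functor.map_comp, Category.assoc, Category.assoc]
      erw [← (EtOver.isPullback_bcObj hg EU).w]
      exact (Category.assoc _ _ _).symm.trans ((congrArg (· ≫ g) e).trans (Category.assoc _ _ _))
    obtain ⟨r, hr⟩ := (yon S).map_surjective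
      (sq.lift ((yon S).map (a ≫ EtOver.bcπ hg EU)) ((yon S).map (b ≫ EtOver.bcπ hg EU)) hab)
    have hr₁ : r ≫ p₁ = a ≫ EtOver.bcπ hg EU :=
      (yon S).map_injective (by rw [Functor.map_comp, hr, sq.lift_fst])
    have hr₂ : r ≫ p₂ = b ≫ EtOver.bcπ hg EU :=
      (yon S).map_injective (by rw [Functor.map_comp, hr, sq.lift_snd])
    obtain ⟨l, hl⟩ : ∃ l : T ⟶ (EtOver.bcObj hg ER).obj.left,
        l = hg.lift ((yon S).map a ≫ φY) r (by
          show ((yon S).map a ≫ φY) ≫ g = (yon S).map r ≫ (yon S).map p₁ ≫ c.φ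
          rw [← Functor.map_comp_assoc, hr₁, Functor.map_comp_assoc, Category.assoc]
          exact congrArg ((yon S).map a ≫ ·) (EtOver.isPullback_bcObj hg EU).w) := ⟨_, rfl⟩
    have hl₁ : (yon S).map l ≫ (EtOver.bcObj hg ER).obj.hom = (yon S).map a ≫ φY := by
      rw [hl]; exact hg.lift_fst _ _ _
    have hl₂ : l ≫ EtOver.bcπ hg ER = r := by
      rw [hl]; exact hg.lift_snd _ _ _
    have hla : l ≫ (EtOver.bcMap hg π₁).hom.left = a := by
      refine bc_hom_ext hg ?_ ?_
      · rw [Functor.map_comp, Category.assoc, EtOver.w (EtOver.bcMap hg π₁), hl₁]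
      · exact (Category.assoc _ _ _).trans ((congrArg (l ≫ ·) (bcMap_π hg π₁)).trans
          ((Category.assoc _ _ _).symm.trans ((congrArg (· ≫ p₁) hl₂).trans hr₁)))
    have hlb : l ≫ (EtOver.bcMap hg π₂).hom.left = b := by
      refine bc_hom_ext hg ?_ ?_
      · rw [Functor.map_comp, Category.assoc, EtOver.w (EtOver.bcMap hg π₂), hl₁]
        exact e
      · exact (Category.assoc _ _ _).trans ((congrArg (l ≫ ·) (bcMap_π hg π₂)).trans
          ((Category.assoc _ _ _).symm.trans ((congrArg (· ≫ p₂) hl₂).trans hr₂)))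
    apply toΓ.injective
    rw [toΓ_comp, toΓ_comp, Equiv.apply_symm_apply]
    refine P_hom_ext ?_
    rw [CommRingCat.comp_apply, CommRingCat.comp_apply, evP_X, ← hla, ← hlb, Over.comp_left,
      Over.comp_left, Scheme.Hom.comp_appTop, Scheme.Hom.comp_appTop, CommRingCat.comp_apply,
      CommRingCat.comp_apply]
    refine congrArg _ ?_
    have h₁ : (EtOver.bcMap hg π₁).hom.left.left.appTop (ULift.down (t EU)) = ULift.down (t ER) :=
      congrArg ULift.down (htres π₁)
    have h₂ : (EtOver.bcMap hg π₂).hom.left.left.appTop (ULift.down (t EU)) = ULift.down (t ER) :=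
      congrArg ULift.down (htres π₂)
    rw [h₁, h₂]
  refine ⟨y, ?_⟩
  let φZ : (yon S).obj (EtOver.bcObj hq EU).obj.left ⟶ Z := (EtOver.bcObj hq EU).obj.hom
  have hZe : RepWith @Etale φZ :=
    repWith_of_isPullback (EtOver.isPullback_bcObj hq EU).flip c.et
  have hZs : RepWith @Surjective φZ :=
    repWith_of_isPullback (EtOver.isPullback_bcObj hq EU).flip c.surj
  refine hom_ext_of_etale φZ hZe hZs (toΓ.injective ?_)
  rw [← Category.assoc, ← bcLiftMap_fst hg hq rfl EU, Category.assoc, hy, toΓ_comp,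
    Equiv.apply_symm_apply]
  refine P_hom_ext ?_
  rw [CommRingCat.comp_apply, evP_X]
  exact congrArg ULift.down (htg EU)

/-- Serre's criterion. -/
theorem exists_iso_affine_of_h1 [QuasiSeparatedSpace S] (hX : IsAlgSpace X)
    (hqc : IsQuasiCompactSp X) (hqs : IsQuasiSeparatedSp X)
    (h1 : ∀ M : ModEt X, M.IsQuasicoherent → Subsingleton (HModEt X M 1)) :
    ∃ T : Over S, IsAffine T.left ∧ Nonempty ((yon S).obj T ≅ X) :=
  exists_iso_affine_of_hyp hX hqc hqs (hyp_of_h1 hX hqc hqs h1)

end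

end Groth.AlgSp2.Serre
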