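import Groth.Agent.AlgSp2.Serre.BaseChange
import Mathlib.AlgebraicGeometry.Morphisms.Etale
import Mathlib.AlgebraicGeometry.ZariskisMainTheorem

/-!
# Charts of affine spaces; a criterion for open immersions into affine schemes
-/

set_option autoImplicit false
set_option linter.unusedSectionVars false
set_option backward.isDefEq.respectTransparency.types false
universe u

open CategoryTheory CategoryTheory.Limits AlgebraicGeometry Opposite AlgSp

namespace Groth.AlgSp2.Serre

open Groth.AlgSpBasic

noncomputable section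

/-- A quasi-finite separated morphism to an affine scheme which is bijective on global functions is an
open immersion. -/
theorem isOpenImmersion_of_appTop_bijective {X Y : Scheme.{u}} (f : X ⟶ Y) [IsAffine Y]
    [LocallyQuasiFinite f] [LocallyOfFiniteType f] [IsSeparated f] [QuasiCompact f]
    (h : Function.Bijective f.appTop) : IsOpenImmersion f := by
  let n := f.fromNormalization
  let m := f.toNormalization
  have : IsAffine f.normalization := isAffine_of_isAffineHom n
  have hf : n.appTop ≫ m.appTop = f.appTop := by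
    rw [← Scheme.Hom.comp_appTop, Scheme.Hom.toNormalization_fromNormalization]
  have hm : Function.Injective m.appTop := by
    refine (injective_iff_map_eq_zero _).2 fun a ha => ?_
    have h1 : a ∈ m.ker.ideal ⟨⊤, isAffineOpen_top _⟩ := by
      rw [Scheme.Hom.ker_apply]
      exact ha
    rw [show m.ker = ⊥ from Scheme.Hom.ker_toNormalization f, Scheme.IdealSheafData.ideal_bot] at h1
    exact h1
  have hn : Function.Bijective n.appTop := by
    refine ⟨fun a b e => h.1 ?_, fun x => ?_⟩
    · rw [← hf, CommRingCat.comp_apply, CommRingCat.comp_apply, e]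
    · obtain ⟨y, hy⟩ := h.2 (m.appTop x)
      exact ⟨y, hm (by rw [← CommRingCat.comp_apply, hf, hy])⟩
  have : IsIso n.appTop := (ConcreteCategory.isIso_iff_bijective _).2 hn
  have : IsIso n := by
    have e : n = f.normalization.isoSpec.hom ≫ Spec.map n.appTop ≫ Y.isoSpec.inv := by
      rw [Scheme.isoSpec_hom_naturality_assoc, Iso.hom_inv_id, Category.comp_id]
    rw [e]
    infer_instance
  rw [← Scheme.Hom.toNormalization_fromNormalization f]
  infer_instance

variable {S : Scheme.{u}} {X : Sp S}

/-- The chart of an affine space over the spectrum of its invariant functions. -/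
theorem exists_of_aff (c : Chart X) {T : Over S} [IsAffine T.left] (e : (yon S).obj T ≅ X) :
    RingHom.Etale c.incl.hom ∧ Surjective (Spec.map c.incl) ∧
      ∀ {Z : Scheme.{u}} (a b : Z ⟶ c.U.left), c.incl ≫ a.appTop = c.incl ≫ b.appTop →
        ∃ h : a ≫ c.U.hom = b ≫ c.U.hom,
          (yon S).map (Over.homMk (U := Over.mk (a ≫ c.U.hom)) a rfl) ≫ c.φ =
            (yon S).map (Over.homMk (U := Over.mk (a ≫ c.U.hom)) b h.symm) ≫ c.φ := by
  obtain ⟨k, hk⟩ := (yon S).map_surjective (c.φ ≫ e.inv)
  have hke : Etale k.left := (repWith_yon_map_iff @Etale k).1 (by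
    rw [hk]; exact repWith_comp c.et (repWith_isIso _))
  have hks : Surjective k.left := (repWith_yon_map_iff @Surjective k).1 (by
    rw [hk]; exact repWith_comp c.surj (repWith_isIso _))
  let Λ : (yon S).obj T ⟶ (K S).obj (op Γ(T.left, ⊤)) := toΓ.symm (𝟙 _)
  let θ := c.toR (e.inv ≫ Λ)
  have hθ : θ ≫ c.incl = k.left.appTop := by
    rw [Chart.toR_incl, ← Category.assoc, ← hk, toΓ_comp, Equiv.apply_symm_apply, Category.id_comp]
  have hinj : ∀ a b, k.left.appTop a = k.left.appTop b → a = b := by
    intro a b hab
    have : (toΓ.symm (evP a) : (yon S).obj T ⟶ (K S).obj (op P)) = toΓ.symm (evP b) := by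
      refine hom_ext_of_fppf k ?_
      apply toΓ.injective
      rw [toΓ_comp, toΓ_comp, Equiv.apply_symm_apply, Equiv.apply_symm_apply]
      refine CommRingCat.hom_ext (Polynomial.ringHom_ext (fun n => ?_) ?_)
      · show k.left.appTop (evP a (Polynomial.C n : Polynomial (ULift.{u} ℤ))) =
          k.left.appTop (evP b (Polynomial.C n : Polynomial (ULift.{u} ℤ)))
        exact congrArg _ ((Polynomial.eval₂_C _ _).trans (Polynomial.eval₂_C _ _).symm)
      · show k.left.appTop (evP a (Polynomial.X : Polynomial (ULift.{u} ℤ))) =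
          k.left.appTop (evP b (Polynomial.X : Polynomial (ULift.{u} ℤ)))
        rw [evP_X, evP_X, hab]
    have h2 := toΓ.symm.injective this
    rw [← evP_X a, ← evP_X b, h2]
  have hθb : Function.Bijective θ := by
    refine ⟨fun a b h => hinj a b ?_, fun r => ?_⟩
    · rw [← hθ, CommRingCat.comp_apply, CommRingCat.comp_apply, h]
    · obtain ⟨z, hz⟩ := c.exists_hom (evP r)
      refine ⟨toΓ (e.hom ≫ z) (Polynomial.X : Polynomial (ULift.{u} ℤ)), c.incl_injective ?_⟩
      rw [← CommRingCat.comp_apply, hθ, ← CommRingCat.comp_apply, ← toΓ_comp, hk, Category.assoc,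
        Iso.inv_hom_id_assoc, hz, CommRingCat.comp_apply, evP_X]
  have : IsIso θ := (ConcreteCategory.isIso_iff_bijective _).2 hθb
  have hincl : c.incl = inv θ ≫ k.left.appTop := by rw [← hθ, IsIso.inv_hom_id_assoc]
  refine ⟨?_, ?_, fun {Z} a b h => ?_⟩
  · rw [hincl, CommRingCat.hom_comp]
    exact RingHom.Etale.respectsIso.2 _ (asIso θ).symm.commRingCatIsoToRingEquiv
      (HasRingHomProperty.appTop (P := @Etale) _ hke)
  · have e₁ : Spec.map k.left.appTop = c.U.left.isoSpec.inv ≫ k.left ≫ T.left.isoSpec.hom := by
      rw [← Scheme.isoSpec_hom_naturality, Iso.inv_hom_id_assoc]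
    rw [hincl, Spec.map_comp, e₁]
    infer_instance
  · have hab : a ≫ k.left = b ≫ k.left := ext_of_isAffine (by
      rw [Scheme.Hom.comp_appTop, Scheme.Hom.comp_appTop, ← hθ,
        Category.assoc, Category.assoc, h])
    have h' : a ≫ c.U.hom = b ≫ c.U.hom :=
      (congrArg (a ≫ ·) (Over.w k).symm).trans ((Category.assoc _ _ _).symm.trans
        ((congrArg (· ≫ T.hom) hab).trans ((Category.assoc _ _ _).trans
          (congrArg (b ≫ ·) (Over.w k)))))
    refine ⟨h', ?_⟩
    have hxy : Over.homMk (U := Over.mk (a ≫ c.U.hom)) a rfl ≫ k =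
        Over.homMk (U := Over.mk (a ≫ c.U.hom)) b h'.symm ≫ k := Over.OverMorphism.ext hab
    have := congrArg (fun m => (yon S).map m ≫ e.hom) hxy
    simpa [hk] using this

end

end Groth.AlgSp2.Serre
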