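import Groth.Agent.AlgSp2.Serre.Chart
import Mathlib.RingTheory.Flat.Basic
import Mathlib.RingTheory.Ideal.Quotient.Operations

/-!
# Invariant functions of base changes
-/

set_option autoImplicit false
set_option linter.unusedSectionVars false
set_option linter.style.haveILetI false
set_option backward.isDefEq.respectTransparency.types false
universe u

open CategoryTheory CategoryTheory.Limits AlgebraicGeometry Opposite AlgSp TensorProduct

namespace Groth.AlgSp2.Serre

open Groth.AlgSpBasic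

noncomputable section

/-- Invariants commute with flat base change. -/
theorem flat_invariants {A B W C B' W' : CommRingCat.{u}} {ι : A ⟶ B} (hι : Function.Injective ι)
    {t s : B ⟶ W} (hts : ι ≫ t = ι ≫ s) (hker : ∀ b : B, t b = s b → b ∈ Set.range ι)
    {ψ : A ⟶ C} (hflat : RingHom.Flat ψ.hom) {v : B ⟶ B'} {z : C ⟶ B'} {w : W ⟶ W'} {t' s' : B' ⟶ W'}
    (h₁ : IsPushout ψ ι z v) (h₂ : IsPushout ψ (ι ≫ t) (z ≫ t') w)
    (ht : v ≫ t' = t ≫ w) (hs : v ≫ s' = s ≫ w) (hz : z ≫ t' = z ≫ s') :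
    Function.Injective z ∧ ∀ x : B', t' x = s' x → x ∈ Set.range z := by
  letI := ψ.hom.toAlgebra
  letI := ι.hom.toAlgebra
  letI := (ι ≫ t).hom.toAlgebra
  have : Module.Flat A C := hflat
  let e := ((CommRingCat.isPushout_tensorProduct A C B).isoIsPushout _ _ h₁).hom
  let eW := ((CommRingCat.isPushout_tensorProduct A C W).isoIsPushout _ _ h₂).hom
  have he : ∀ (c : C) (b : B), e (c ⊗ₜ[A] b) = z c * v b := by
    intro c b
    have h3 : e (c ⊗ₜ[A] (1 : B)) = z c :=
      congr($((CommRingCat.isPushout_tensorProduct A C B).inl_isoIsPushout_hom _ _ h₁) c)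
    have h4 : e ((1 : C) ⊗ₜ[A] b) = v b :=
      congr($((CommRingCat.isPushout_tensorProduct A C B).inr_isoIsPushout_hom _ _ h₁) b)
    rw [← h3, ← h4, ← map_mul]
    congr 1
    exact ((Algebra.TensorProduct.tmul_mul_tmul _ _ _ _).trans (by rw [mul_one, one_mul])).symm
  have heW : ∀ (c : C) (b : W), eW (c ⊗ₜ[A] b) = t' (z c) * w b := by
    intro c b
    have h3 : eW (c ⊗ₜ[A] (1 : W)) = t' (z c) :=
      congr($((CommRingCat.isPushout_tensorProduct A C W).inl_isoIsPushout_hom _ _ h₂) c)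
    have h4 : eW ((1 : C) ⊗ₜ[A] b) = w b :=
      congr($((CommRingCat.isPushout_tensorProduct A C W).inr_isoIsPushout_hom _ _ h₂) b)
    rw [← h3, ← h4, ← map_mul]
    congr 1
    exact ((Algebra.TensorProduct.tmul_mul_tmul _ _ _ _).trans (by rw [mul_one, one_mul])).symm
  let i : A →ₗ[A] B := Algebra.linearMap A B
  let d : B →ₗ[A] W :=
    { toFun := fun b => t b - s b
      map_add' := fun x y => by simp only [map_add]; abel
      map_smul' := fun a x => by
        show t (ι a * x) - s (ι a * x) = t (ι a) * (t x - s x)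
        rw [map_mul, map_mul, show s (ι a) = t (ι a) from congr($(hts.symm) a), mul_sub] }
  have hex : Function.Exact i d := by
    intro b
    show t b - s b = 0 ↔ _
    rw [sub_eq_zero]
    refine ⟨hker b, ?_⟩
    rintro ⟨a, rfl⟩
    exact congr($hts a)
  have hd : ∀ x : C ⊗[A] B, eW (d.lTensor C x) = t' (e x) - s' (e x) := by
    intro x
    induction x using TensorProduct.induction_on with
    | zero => simp
    | tmul c b =>
      rw [LinearMap.lTensor_tmul, heW, he, map_mul, map_mul,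
        show t' (v b) = w (t b) from congr($ht b), show s' (v b) = w (s b) from congr($hs b),
        show s' (z c) = t' (z c) from congr($hz.symm c)]
      show _ * w (t b - s b) = _
      rw [map_sub, mul_sub]
    | add x y hx hy =>
      simp only [map_add, hx, hy]
      abel
  have hzi : ∀ c : C, e (i.lTensor C ((TensorProduct.rid A C).symm c)) = z c := by
    intro c
    rw [TensorProduct.rid_symm_apply, LinearMap.lTensor_tmul,
      show i 1 = (1 : B) from map_one (algebraMap A B), he, map_one, mul_one]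
  refine ⟨fun c c' h => ?_, fun x hx => ?_⟩
  · rw [← hzi c, ← hzi c'] at h
    exact (TensorProduct.rid A C).symm.injective
      (Module.Flat.lTensor_preserves_injective_linearMap i hι
        ((ConcreteCategory.bijective_of_isIso e).1 h))
  · obtain ⟨y, rfl⟩ := (ConcreteCategory.bijective_of_isIso e).2 x
    have h0 : d.lTensor C y = 0 := (ConcreteCategory.bijective_of_isIso eW).1 (by
      rw [hd, map_zero, hx, sub_self])
    obtain ⟨q, rfl⟩ := ((Module.Flat.lTensor_exact (M := C) hex) y).1 h0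
    refine ⟨TensorProduct.rid A C q, ?_⟩
    rw [← hzi, LinearEquiv.symm_apply_apply]

/-- The kernel of the base change to a quotient. -/
theorem exists_of_pushout_quotient {A B B' : CommRingCat.{u}} {ι : A ⟶ B} {I : Ideal A}
    {z : CommRingCat.of (A ⧸ I) ⟶ B'} {v : B ⟶ B'}
    (h : IsPushout (CommRingCat.ofHom (Ideal.Quotient.mk I)) ι z v) {b : B} (hb : v b = 0) :
    b ∈ I.map ι.hom := by
  let J := I.map ι.hom
  obtain ⟨m, -, hm⟩ := h.exists_desc
    (CommRingCat.ofHom (Ideal.quotientMap J ι.hom Ideal.le_comap_map))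
    (CommRingCat.ofHom (Ideal.Quotient.mk J)) (CommRingCat.hom_ext (RingHom.ext fun a => rfl))
  rw [← Ideal.Quotient.eq_zero_iff_mem, ← map_zero m.hom, ← hb]
  exact congr($hm.symm b)

variable {S : Scheme.{u}} {X : Sp S} (c : Chart X)

/-- The base change of a space along a map of its ring of invariant functions. -/
abbrev bcSp {C : CommRingCat.{u}} (ψ : c.R ⟶ C) : Sp S := pullback c.canon ((K S).map ψ.op)

/-- The projection of a base change. -/
abbrev bcFst {C : CommRingCat.{u}} (ψ : c.R ⟶ C) : bcSp c ψ ⟶ X :=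
  pullback.fst c.canon ((K S).map ψ.op)

theorem repWith_bcFst {C : CommRingCat.{u}} (ψ : c.R ⟶ C) :
    RepWith @IsAffineHom (bcFst c ψ) :=
  repWith_of_isPullback (IsPullback.of_hasPullback _ _).flip (repWith_isAffineHom_K_map _)

theorem isAlgSpace_bcSp (hX : IsAlgSpace X) {C : CommRingCat.{u}} (ψ : c.R ⟶ C) :
    IsAlgSpace (bcSp c ψ) :=
  isAlgSpace_pullback ⟨X, hX⟩ ⟨_, isAlgSpace_K _⟩ ⟨_, isAlgSpace_K _⟩ _ _

theorem repWith_isClosedImmersion_bcFst {C : CommRingCat.{u}} (ψ : c.R ⟶ C)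
    (hψ : Function.Surjective ψ) : RepWith @IsClosedImmersion (bcFst c ψ) := by
  refine repWith_of_isPullback (IsPullback.of_hasPullback _ _).flip
    ((repWith_yon_map_iff @IsClosedImmersion ((KS S).map ψ.op)).2 ?_)
  have e : ((KS S).map ψ.op).left = prod.map (𝟙 S) (Scheme.Spec.map ψ.op) := by
    simp [KS, Over.star]
  rw [e]
  have : IsClosedImmersion (Scheme.Spec.map ψ.op) := IsClosedImmersion.spec_of_surjective ψ hψ
  refine MorphismProperty.of_isPullback (P := @IsClosedImmersion) (IsPullback.mk' (prod.map_snd _ _)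
    (fun T a b h₁ h₂ => prod.hom_ext (by simpa using h₁ =≫ prod.fst) h₂)
    (fun T a b w => ⟨prod.lift (a ≫ prod.fst) b, prod.hom_ext
      (by rw [Category.assoc, prod.map_fst, Category.comp_id, prod.lift_fst])
      (by rw [Category.assoc, prod.map_snd, ← Category.assoc, prod.lift_snd]; exact w.symm),
      prod.lift_snd _ _⟩)).flip this

/-- The chart of a base change with the rings of the chart as pushouts. -/
theorem exists_bcChart {C : CommRingCat.{u}} (ψ : c.R ⟶ C) :
    ∃ (c' : Chart (bcSp c ψ)) (z : C ⟶ c'.R) (v : c'.U ⟶ c.U) (w : c'.W ⟶ c.W),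
      c.res c' (bcFst c ψ) = ψ ≫ z ∧
      IsPullback c'.φ ((yon S).map v) (bcFst c ψ) c.φ ∧
      IsPushout ψ c.incl (z ≫ c'.incl) v.left.appTop ∧
      IsPushout ψ (c.incl ≫ c.t.left.appTop) ((z ≫ c'.incl) ≫ c'.t.left.appTop) w.left.appTop ∧
      c'.t ≫ v = w ≫ c.t ∧ c'.s ≫ v = w ≫ c.s := by
  obtain ⟨c', v, w, sqV, sqW, htv, hsv⟩ := c.exists_pull (repWith_bcFst c ψ)
  let q : bcSp c ψ ⟶ (K S).obj (op C) := pullback.snd _ _
  have hq : IsPullback (bcFst c ψ) q c.canon ((K S).map ψ.op) := IsPullback.of_hasPullback _ _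
  refine ⟨c', c'.toR q, v, w, ?_, sqV, ?_, ?_, htv, hsv⟩
  · show c'.toR (bcFst c ψ ≫ c.canon) = _
    rw [hq.w, c'.toR_comp_map]
  · have h := isPushout_of_isPullback ((sqV.flip.paste_vert hq).flip)
    rwa [c.toΓ_canon] at h
  · have h := isPushout_of_isPullback ((sqW.flip.paste_vert hq).flip)
    rwa [Category.assoc, toΓ_comp, Category.assoc, toΓ_comp, c.toΓ_canon] at h

/-- Invariant functions of a flat base change. -/
theorem bijective_of_flat {C : CommRingCat.{u}} {ψ : c.R ⟶ C} (hflat : RingHom.Flat ψ.hom)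
    {c' : Chart (bcSp c ψ)} {z : C ⟶ c'.R} {v : c'.U ⟶ c.U} {w : c'.W ⟶ c.W}
    (h₁ : IsPushout ψ c.incl (z ≫ c'.incl) v.left.appTop)
    (h₂ : IsPushout ψ (c.incl ≫ c.t.left.appTop) ((z ≫ c'.incl) ≫ c'.t.left.appTop) w.left.appTop)
    (htv : c'.t ≫ v = w ≫ c.t) (hsv : c'.s ≫ v = w ≫ c.s) : Function.Bijective z := by
  obtain ⟨hi, hs⟩ := flat_invariants c.incl_injective c.incl_w (fun b hb => ⟨⟨b, hb⟩, rfl⟩) hflat
    (t' := c'.t.left.appTop) (s' := c'.s.left.appTop) h₁ h₂
    (by rw [← Scheme.Hom.comp_appTop, ← Scheme.Hom.comp_appTop, ← Over.comp_left, htv, Over.comp_left])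
    (by rw [← Scheme.Hom.comp_appTop, ← Scheme.Hom.comp_appTop, ← Over.comp_left, hsv, Over.comp_left])
    (by rw [Category.assoc, Category.assoc, c'.incl_w])
  refine ⟨fun a b e => hi (congrArg c'.incl e), fun b => ?_⟩
  obtain ⟨a, ha⟩ := hs (c'.incl b) b.2
  exact ⟨a, c'.incl_injective ha⟩

end

end Groth.AlgSp2.Serre
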