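import Groth.Agent.AlgSp2.Serre.Affine
import Groth.Agent.AlgSp2.Chevalley.Main
import Groth.Agent.AlgSp2.SigmaGlue
import Groth.Agent.AlgSpBasic.Univ

/-!
# Closed subspaces cut out by invariant functions
-/

set_option autoImplicit false
set_option linter.unusedSectionVars false
set_option backward.isDefEq.respectTransparency.types false
universe u

open CategoryTheory CategoryTheory.Limits AlgebraicGeometry Opposite TopologicalSpace AlgSp

namespace Groth.AlgSp2.Serre

open Groth.AlgSpBasic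

noncomputable section

variable {S : Scheme.{u}}

/-- The space is an affine scheme. -/
def Aff (X : Sp S) : Prop := ∃ T : Over S, IsAffine T.left ∧ Nonempty ((yon S).obj T ≅ X)

theorem Aff.of_iso {X Y : Sp S} (h : Aff X) (e : X ≅ Y) : Aff Y :=
  let ⟨T, hT, ⟨e'⟩⟩ := h
  ⟨T, hT, ⟨e' ≪≫ e⟩⟩

theorem repWith_isAffineHom_of_closed {X Z : Sp S} {i : Z ⟶ X}
    (hi : RepWith @IsClosedImmersion i) : RepWith @IsAffineHom i :=
  repWith_mono (fun _ _ k (_ : IsClosedImmersion k) => (inferInstance : IsAffineHom k)) hi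

theorem Aff.of_affineHom {X Z : Sp S} (h : Aff X) {i : Z ⟶ X}
    (hi : RepWith @IsAffineHom i) : Aff Z := by
  obtain ⟨T, hT, ⟨e⟩⟩ := h
  obtain ⟨V, v, p, sq⟩ := hi.rep e.hom
  have : IsAffineHom v.left := hi.property _ p v sq
  have : IsIso p := sq.isIso_fst_of_isIso
  exact ⟨V, isAffine_of_isAffineHom v.left, ⟨asIso p⟩⟩

theorem Aff.of_closed {X Z : Sp S} (h : Aff X) {i : Z ⟶ X}
    (hi : RepWith @IsClosedImmersion i) : Aff Z :=
  h.of_affineHom (repWith_isAffineHom_of_closed hi)

theorem isClosedMap_of_closed {X Z : Sp S} {i : Z ⟶ X}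
    (hi : RepWith @IsClosedImmersion i) : IsClosedMap (Points.map i) :=
  isClosedMap_map_of_repWith (fun _ _ φ (_ : IsClosedImmersion φ) => φ.isClosedMap) hi

/-- A space covered by two affine closed subspaces is affine. -/
theorem aff_of_two {X Z₁ Z₂ : Sp S} (hX : IsAlgSpace X) {i₁ : Z₁ ⟶ X} {i₂ : Z₂ ⟶ X}
    (hi₁ : RepWith @IsClosedImmersion i₁) (hi₂ : RepWith @IsClosedImmersion i₂)
    (h₁ : Aff Z₁) (h₂ : Aff Z₂)
    (hcov : Set.range (Points.map i₁) ∪ Set.range (Points.map i₂) = Set.univ) : Aff X := by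
  obtain ⟨T₁, hT₁, ⟨e₁⟩⟩ := h₁
  obtain ⟨T₂, hT₂, ⟨e₂⟩⟩ := h₂
  let T : ULift.{u} Bool → Over S := fun b => bif b.down then T₁ else T₂
  have : ∀ b, IsAffine (T b).left := fun ⟨b⟩ => by cases b <;> assumption
  let j : ∀ b, (yon S).obj (T b) ⟶ X := fun ⟨b⟩ =>
    match b with
    | true => e₁.hom ≫ i₁
    | false => e₂.hom ≫ i₂
  have hj : ∀ b, RepWith @IsClosedImmersion (j b) := fun ⟨b⟩ => by
    cases b
    · exact repWith_comp (repWith_isIso e₂.hom) hi₂
    · exact repWith_comp (repWith_isIso e₁.hom) hi₁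
  obtain ⟨f, hf, -⟩ := Groth.AlgSp2.exists_glue T j
  have : IsAffine (sigmaObj T).left := inferInstanceAs (IsAffine (∐ fun b => (T b).left))
  have hcover : ∀ a : Points ((yon S).obj (sigmaObj T)), ∃ b z,
      Points.map ((yon S).map (sigmaIncl T b)) z = a := by
    intro a
    obtain ⟨u, rfl⟩ := (Points.schemeHomeo (sigmaObj T)).surjective a
    obtain ⟨b, z, hz⟩ := (sigmaOpenCover fun b => (T b).left).exists_eq u
    exact ⟨b, Points.schemeHomeo (T b) z, by rw [Points.map_yon_map_apply]; exact congrArg _ hz⟩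
  have hrange : ∀ b, Set.range (Points.map (j b)) ⊆ Set.range (Points.map f) := fun b => by
    rintro _ ⟨z, rfl⟩
    exact ⟨Points.map ((yon S).map (sigmaIncl T b)) z, by rw [← Points.map_comp, hf]⟩
  have hs : IsSurjectiveMor f := fun x => by
    rcases hcov.ge (Set.mem_univ x) with ⟨z, rfl⟩ | ⟨z, rfl⟩
    · exact hrange ⟨true⟩ ⟨Points.map e₁.inv z, by
        show Points.map (e₁.hom ≫ i₁) _ = _
        rw [← Points.map_comp, Iso.inv_hom_id_assoc]⟩
    · exact hrange ⟨false⟩ ⟨Points.map e₂.inv z, by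
        show Points.map (e₂.hom ≫ i₂) _ = _
        rw [← Points.map_comp, Iso.inv_hom_id_assoc]⟩
  refine Chevalley.exists_iso_affine hX hs fun Z Z' hZ g fst snd sq W hW => ?_
  let Y : ∀ b, Sp S := fun b => pullback fst ((yon S).map (sigmaIncl T b))
  let k : ∀ b, Y b ⟶ Z' := fun b => pullback.fst _ _
  have hY : ∀ b, RepWith @IsClosedImmersion (k b ≫ snd) := fun b => by
    have h := (IsPullback.of_hasPullback fst ((yon S).map (sigmaIncl T b))).flip.paste_vert sq
    rw [hf] at h
    exact repWith_of_isPullback h (hj b)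
  have hW' : Points.map snd '' W =
      ⋃ b, Points.map (k b ≫ snd) '' (Points.map (k b) ⁻¹' W) := by
    ext z
    simp only [Set.mem_image, Set.mem_iUnion, Set.mem_preimage]
    constructor
    · rintro ⟨w, hw, rfl⟩
      obtain ⟨b, y, hy⟩ := hcover (Points.map fst w)
      obtain ⟨a, ha, -⟩ := Groth.AlgSpBasic.exists_point_of_isPullback
        (IsPullback.of_hasPullback fst ((yon S).map (sigmaIncl T b))) w y hy.symm
      exact ⟨b, a, by rw [ha]; exact hw, by rw [Points.map_comp, ha]⟩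
    · rintro ⟨b, a, ha, rfl⟩
      exact ⟨_, ha, (Points.map_comp _ _ _).symm⟩
  show IsClosed (Points.map snd '' W)
  rw [hW']
  exact isClosed_iUnion_of_finite fun b =>
    isClosedMap_of_closed (hY b) _ (hW.preimage (Points.continuous_map _))

variable {X : Sp S}

/-- The map to the spectrum of invariant functions on the chart. -/
theorem incl_comp_eq (c : Chart X) {Z : Over S} (x y : Z ⟶ c.U)
    (h : (yon S).map x ≫ c.φ = (yon S).map y ≫ c.φ) :
    c.incl ≫ x.left.appTop = c.incl ≫ y.left.appTop := by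
  rw [← c.toΓ_canon, ← toΓ_comp, ← toΓ_comp, ← Category.assoc, ← Category.assoc, h]

/-- Related points of the chart come from a point of the covering of the kernel pair. -/
theorem exists_rel (hX : IsAlgSpace X) (c : Chart X) {a b : ↥c.U.left}
    (h : Points.ofPt c.φ a = Points.ofPt c.φ b) :
    ∃ w, c.t.left w = a ∧ c.s.left w = b := by
  obtain ⟨R, p₁, p₂, sq⟩ := exists_pullback_of_diag hX.diag c.φ c.φ
  obtain ⟨r, hr₁, hr₂⟩ := (ofPt_eq_ofPt_iff sq a b).1 h
  obtain ⟨Z', d, k, hd, hd', hkt, hks⟩ := c.cover p₁ p₂ sq.w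
  obtain ⟨r', rfl⟩ := d.left.surjective r
  refine ⟨k.left r', ?_, ?_⟩
  · rw [← Scheme.Hom.comp_apply, ← Over.comp_left, hkt, Over.comp_left, Scheme.Hom.comp_apply, hr₁]
  · rw [← Scheme.Hom.comp_apply, ← Over.comp_left, hks, Over.comp_left, Scheme.Hom.comp_apply, hr₂]

theorem mem_basicOpen_iff_of_ofPt_eq (hX : IsAlgSpace X) (c : Chart X) (f : c.R)
    {a b : ↥c.U.left} (h : Points.ofPt c.φ a = Points.ofPt c.φ b) :
    a ∈ c.U.left.basicOpen (c.incl f) ↔ b ∈ c.U.left.basicOpen (c.incl f) := by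
  obtain ⟨w, rfl, rfl⟩ := exists_rel hX c h
  show w ∈ c.t.left ⁻¹ᵁ c.U.left.basicOpen (c.incl f) ↔ w ∈ c.s.left ⁻¹ᵁ c.U.left.basicOpen (c.incl f)
  rw [Scheme.preimage_basicOpen_top, Scheme.preimage_basicOpen_top,
    ← CommRingCat.comp_apply, c.incl_w, CommRingCat.comp_apply]

/-- A point at which the map on invariant functions factors lies in the base change. -/
theorem exists_point_bcFst (c : Chart X) {C : CommRingCat.{u}} {ψ : c.R ⟶ C} {u : ↥c.U.left}
    (θ : C ⟶ c.U.left.residueField u)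
    (h : ψ ≫ θ = c.incl ≫ c.U.left.evaluation ⊤ u trivial) :
    Points.ofPt c.φ u ∈ Set.range (Points.map (bcFst c ψ)) := by
  obtain ⟨c', z, v, w, -, sqV, h₁, -, -, -⟩ := exists_bcChart c ψ
  let L := c.U.left.residueField u
  obtain ⟨m, -, hm⟩ := h₁.exists_desc θ (c.U.left.evaluation ⊤ u trivial) h
  let l : Spec L ⟶ c'.U.left := Spec.map m ≫ c'.U.left.isoSpec.inv
  have hl : l.appTop ≫ (Scheme.ΓSpecIso L).hom = m := by
    simp [l, Scheme.isoSpec, Scheme.toSpecΓ_appTop]
  have hlv : l ≫ v.left = c.U.left.fromSpecResidueField u := by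
    refine ext_of_isAffine ?_
    rw [Scheme.Hom.comp_appTop, ← cancel_mono (Scheme.ΓSpecIso L).hom, Category.assoc]
    erw [hl]
    rw [hm]
    simp [L, Scheme.evaluation, Scheme.fromSpecResidueField, Scheme.fromSpecStalk_appTop]
  refine ⟨Points.ofPt c'.φ (l (IsLocalRing.closedPoint L)), ?_⟩
  rw [Points.map_ofPt, sqV.w, ofPt_comp_yon, ← Scheme.Hom.comp_apply, hlv]
  exact congrArg _ (Scheme.fromSpecResidueField_apply _ _)

/-- The quotient of the invariant functions. -/
abbrev quot (c : Chart X) (J : Ideal c.R) : c.R ⟶ CommRingCat.of (c.R ⧸ J) :=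
  CommRingCat.ofHom (Ideal.Quotient.mk J)

theorem repWith_closed_quot (c : Chart X) (J : Ideal c.R) :
    RepWith @IsClosedImmersion (bcFst c (quot c J)) :=
  repWith_isClosedImmersion_bcFst c _ Ideal.Quotient.mk_surjective

theorem mem_range_quot (c : Chart X) (f : c.R) {u : ↥c.U.left}
    (hu : u ∉ c.U.left.basicOpen (c.incl f)) :
    Points.ofPt c.φ u ∈ Set.range (Points.map (bcFst c (quot c (Ideal.span {f})))) := by
  refine exists_point_bcFst c (CommRingCat.ofHom (Ideal.Quotient.lift _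
    (c.incl ≫ c.U.left.evaluation ⊤ u trivial).hom fun a ha => ?_)) (CommRingCat.hom_ext (RingHom.ext fun a => rfl))
  obtain ⟨b, rfl⟩ := Ideal.mem_span_singleton'.1 ha
  have h0 : c.U.left.evaluation ⊤ u trivial (c.incl f) = 0 :=
    (Scheme.evaluation_eq_zero_iff_notMem_basicOpen (U := ⊤) _ u trivial _).2 hu
  rw [map_mul]
  show _ * c.U.left.evaluation ⊤ u trivial (c.incl f) = 0
  rw [h0, mul_zero]

theorem mem_range_away (c : Chart X) (f : c.R) {C : CommRingCat.{u}} {ψ : c.R ⟶ C}
    (hψ : @IsLocalization.Away _ _ f C _ ψ.hom.toAlgebra) {u : ↥c.U.left}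
    (hu : u ∈ c.U.left.basicOpen (c.incl f)) :
    Points.ofPt c.φ u ∈ Set.range (Points.map (bcFst c ψ)) := by
  letI := ψ.hom.toAlgebra
  have : IsLocalization.Away f C := hψ
  have h0 : IsUnit ((c.incl ≫ c.U.left.evaluation ⊤ u trivial).hom f) := by
    refine isUnit_iff_ne_zero.2 fun h => ?_
    exact (Scheme.evaluation_eq_zero_iff_notMem_basicOpen (U := ⊤) _ u trivial _).1 h hu
  exact exists_point_bcFst c (CommRingCat.ofHom (IsLocalization.Away.lift f h0))
    (CommRingCat.hom_ext (IsLocalization.Away.lift_comp f h0))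

/-- A map on which the invariant functions factor lifts to the base change. -/
theorem exists_lift_bc (c : Chart X) {Z : Sp S} (c' : Chart Z) (i : Z ⟶ X) {C : CommRingCat.{u}}
    {ψ : c.R ⟶ C} (θ : C ⟶ c'.R) (h : c.res c' i = ψ ≫ θ) :
    ∃ l : Z ⟶ bcSp c ψ, l ≫ bcFst c ψ = i :=
  ⟨pullback.lift i (c'.canon ≫ (K S).map θ.op) (by
    rw [Category.assoc, ← Functor.map_comp, ← op_comp, ← h, c.canon_res]), pullback.lift_fst _ _ _⟩

theorem repWith_closed_of_mono {Y Z : Sp S} {i : Z ⟶ X} (hi : RepWith @IsClosedImmersion i)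
    {l : Z ⟶ Y} {j : Y ⟶ X} [Mono j] (h : l ≫ j = i) : RepWith @IsClosedImmersion l := by
  subst h
  refine repWith_of_isPullback (a := 𝟙 Z) (f' := l) (b := j) ?_ hi
  simpa using (IsPullback.id_horiz l).paste_vert (IsKernelPair.id_of_mono j)

instance mono_bcFst_quot (c : Chart X) (J : Ideal c.R) : Mono (bcFst c (quot c J)) :=
  mono_of_repWith (fun _ _ g (_ : IsClosedImmersion g) => (inferInstance : Mono g))
    (repWith_closed_quot c J)

/-- A closed subspace killed by an ideal lifts to the closed subspace of that ideal. -/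
theorem exists_lift_quot (c : Chart X) {Z : Sp S} (c' : Chart Z) {i : Z ⟶ X}
    (hi : RepWith @IsClosedImmersion i) {J : Ideal c.R} (hJ : J ≤ RingHom.ker (c.res c' i).hom) :
    ∃ l : Z ⟶ bcSp c (quot c J), RepWith @IsClosedImmersion l := by
  obtain ⟨l, hl⟩ := exists_lift_bc c c' i (ψ := quot c J)
    (CommRingCat.ofHom (Ideal.Quotient.lift J (c.res c' i).hom hJ))
    (CommRingCat.hom_ext (RingHom.ext fun a => rfl))
  exact ⟨l, repWith_closed_of_mono hi hl⟩

/-- A space with no invariant functions but zero is affine. -/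
theorem aff_of_subsingleton (hX : IsAlgSpace X) (c : Chart X) [Subsingleton c.R] : Aff X := by
  have hne : IsEmpty ↥c.U.left := by
    refine ⟨fun u => ?_⟩
    have h : c.U.left.evaluation ⊤ u trivial (c.incl 1) = 0 := by
      rw [Subsingleton.elim (1 : c.R) 0, map_zero, map_zero]
    rw [map_one, map_one] at h
    exact one_ne_zero h
  have hX0 : IsEmpty (Points X) := ⟨fun x => hne.elim (surjective_ofPt_of_repWith c.surj x).choose⟩
  refine Chevalley.exists_iso_affine hX (f := c.φ) (fun x => hX0.elim x)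
    fun Z Z' hZ g fst snd sq W hW => ?_
  have : IsEmpty (Points ((yon S).obj c.U)) := (Points.schemeHomeo c.U).toEquiv.symm.isEmpty
  have : IsEmpty (Points Z') := ⟨fun z => IsEmpty.false (Points.map fst z)⟩
  show IsClosed (Points.map snd '' W)
  rw [Set.eq_empty_of_isEmpty W, Set.image_empty]
  exact isClosed_empty

end

end Groth.AlgSp2.Serre
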