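import Groth.Agent.AlgSp2.Serre.Const
import Groth.Agent.AlgSp2.FpqcRep
import Groth.Agent.SpLimit.MonoEventual
import Groth.Agent.AlgSpBasic.Compact
import Mathlib.Algebra.Category.Ring.Constructions
import Mathlib.Algebra.Polynomial.Eval.Defs

/-!
# Charts of qcqs algebraic spaces and their rings of invariant functions
-/

set_option autoImplicit false
set_option linter.unusedSectionVars false
set_option backward.isDefEq.respectTransparency.types false
universe u

open CategoryTheory CategoryTheory.Limits AlgebraicGeometry Opposite AlgSp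

namespace Groth.AlgSp2.Serre

open Groth.AlgSpBasic

noncomputable section

variable {S : Scheme.{u}}

/-- An affine chart with an affine covering of its kernel pair. -/
structure Chart (X : Sp S) where
  /-- the chart -/
  U : Over S
  /-- the covering of the kernel pair -/
  W : Over S
  /-- the map to the space -/
  φ : (yon S).obj U ⟶ X
  /-- first projection -/
  t : W ⟶ U
  /-- second projection -/
  s : W ⟶ U
  affU : IsAffine U.left
  affW : IsAffine W.left
  et : RepWith @Etale φ
  surj : RepWith @Surjective φ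
  etW : Etale t.left ∧ Etale s.left
  w : (yon S).map t ≫ φ = (yon S).map s ≫ φ
  cover : ∀ {Z : Over S} (x y : Z ⟶ U), (yon S).map x ≫ φ = (yon S).map y ≫ φ →
    ∃ (Z' : Over S) (c : Z' ⟶ Z) (k : Z' ⟶ W),
      Etale c.left ∧ Surjective c.left ∧ k ≫ t = c ≫ x ∧ k ≫ s = c ≫ y

attribute [instance] Chart.affU Chart.affW

theorem nonempty_chart [QuasiSeparatedSpace S] {X : Sp S} (hX : IsAlgSpace X)
    (hqc : IsQuasiCompactSp X) (hqs : IsQuasiSeparatedSp X) : Nonempty (Chart X) := by
  obtain ⟨U, φ, hU, he, hs⟩ := exists_affine_chart hX hqc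
  obtain ⟨R, p₁, p₂, sq⟩ := exists_pullback_of_diag hX.diag φ φ
  have : CompactSpace R.left := Groth.SpLimit.compactSpace_pullback_of_qs hqs sq
  obtain ⟨W, q, hW, hqe, hqs'⟩ := exists_affine_chart (IsAlgSpace.yon_obj R)
    (show IsQuasiCompactSp ((yon S).obj R) from ⟨R, 𝟙 _, repWith_id _ _, repWith_id _ _, ‹_›⟩)
  obtain ⟨r, rfl⟩ := (yon S).map_surjective q
  have hre : Etale r.left := (repWith_yon_map_iff @Etale r).1 hqe
  have hrs : Surjective r.left := (repWith_yon_map_iff @Surjective r).1 hqs'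
  have h₁ : Etale p₁.left := repWith_fst_of_isPullback sq.flip he
  have h₂ : Etale p₂.left := repWith_fst_of_isPullback sq he
  refine ⟨⟨U, W, φ, r ≫ p₁, r ≫ p₂, hU, hW, he, hs,
    ⟨inferInstanceAs (Etale (r.left ≫ p₁.left)), inferInstanceAs (Etale (r.left ≫ p₂.left))⟩,
    ?_, fun {Z} x y e => ?_⟩⟩
  · rw [Functor.map_comp, Functor.map_comp, Category.assoc, Category.assoc, sq.w]
  · obtain ⟨l, hl⟩ := (yon S).map_surjective (sq.lift _ _ e)
    obtain ⟨Z', c, k, sqc⟩ := exists_pullback_of_diag (IsAlgSpace.yon_obj R).diag ((yon S).map l)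
      ((yon S).map r)
    have hce : Etale c.left := repWith_fst_of_isPullback sqc.flip hqe |> fun h => by exact h
    have hcs : Surjective c.left := repWith_fst_of_isPullback sqc.flip hqs'
    have hk : k ≫ r = c ≫ l := (yon S).map_injective (by
      rw [Functor.map_comp, Functor.map_comp]; exact sqc.w.symm)
    refine ⟨Z', c, k, hce, hcs, ?_, ?_⟩
    · rw [← Category.assoc, hk, Category.assoc,
        show l ≫ p₁ = x from (yon S).map_injective (by rw [Functor.map_comp, hl, sq.lift_fst])]
    · rw [← Category.assoc, hk, Category.assoc,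
        show l ≫ p₂ = y from (yon S).map_injective (by rw [Functor.map_comp, hl, sq.lift_snd])]

namespace Chart

variable {X : Sp S} (c : Chart X)

/-- Invariant functions. -/
def inv : Subring Γ(c.U.left, ⊤) := RingHom.eqLocus c.t.left.appTop.hom c.s.left.appTop.hom

/-- The ring of invariant functions. -/
def R : CommRingCat.{u} := CommRingCat.of c.inv

/-- The inclusion of the invariant functions. -/
def incl : c.R ⟶ Γ(c.U.left, ⊤) := CommRingCat.ofHom c.inv.subtype

theorem incl_injective : Function.Injective c.incl := Subtype.val_injective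

instance mono_incl : Mono c.incl := ConcreteCategory.mono_of_injective _ c.incl_injective

theorem incl_w : c.incl ≫ c.t.left.appTop = c.incl ≫ c.s.left.appTop :=
  CommRingCat.hom_ext (RingHom.ext fun a => a.2)

theorem comp_w {C : CommRingCat.{u}} (x : X ⟶ (K S).obj (op C)) :
    toΓ (c.φ ≫ x) ≫ c.t.left.appTop = toΓ (c.φ ≫ x) ≫ c.s.left.appTop := by
  rw [← toΓ_comp, ← toΓ_comp, ← Category.assoc, ← Category.assoc, c.w]

/-- The ring map of a map to a constant affine scheme. -/
def toR {C : CommRingCat.{u}} (x : X ⟶ (K S).obj (op C)) : C ⟶ c.R :=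
  CommRingCat.ofHom ((toΓ (c.φ ≫ x)).hom.codRestrict c.inv fun a =>
    congr($(c.comp_w x) a))

theorem toR_incl {C : CommRingCat.{u}} (x : X ⟶ (K S).obj (op C)) :
    c.toR x ≫ c.incl = toΓ (c.φ ≫ x) := rfl

theorem hom_ext {C : CommRingCat.{u}} {x y : X ⟶ (K S).obj (op C)}
    (h : toΓ (c.φ ≫ x) = toΓ (c.φ ≫ y)) : x = y :=
  hom_ext_of_etale c.φ c.et c.surj (toΓ.injective h)

theorem exists_hom {C : CommRingCat.{u}} (θ : C ⟶ c.R) :
    ∃ x : X ⟶ (K S).obj (op C), toΓ (c.φ ≫ x) = θ ≫ c.incl := by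
  obtain ⟨x, hx⟩ := exists_desc_of_etale c.φ c.et c.surj (toΓ.symm (θ ≫ c.incl)) fun Z p q e => by
    obtain ⟨p, rfl⟩ := (yon S).map_surjective p
    obtain ⟨q, rfl⟩ := (yon S).map_surjective q
    obtain ⟨Z', d, k, hd, hd', hkt, hks⟩ := c.cover p q e
    refine hom_ext_of_fppf d ?_
    rw [← Functor.map_comp_assoc, ← Functor.map_comp_assoc, ← hkt, ← hks, Functor.map_comp_assoc,
      Functor.map_comp_assoc]
    congr 1
    apply toΓ.injective
    rw [toΓ_comp, toΓ_comp, Equiv.apply_symm_apply, Category.assoc, Category.assoc, c.incl_w]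
  exact ⟨x, by rw [hx, Equiv.apply_symm_apply]⟩

/-- The canonical map to the spectrum of the invariant functions. -/
def canon : X ⟶ (K S).obj (op c.R) := (c.exists_hom (𝟙 c.R)).choose

theorem toΓ_canon : toΓ (c.φ ≫ c.canon) = c.incl :=
  (c.exists_hom (𝟙 c.R)).choose_spec.trans (Category.id_comp _)

theorem factor {C : CommRingCat.{u}} (x : X ⟶ (K S).obj (op C)) :
    c.canon ≫ (K S).map (c.toR x).op = x :=
  c.hom_ext (by rw [← Category.assoc, toΓ_map, toΓ_canon, toR_incl])

theorem toR_canon_map {C : CommRingCat.{u}} (θ : C ⟶ c.R) :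
    c.toR (c.canon ≫ (K S).map θ.op) = θ := by
  rw [← cancel_mono c.incl, toR_incl, ← Category.assoc, toΓ_map, toΓ_canon]

theorem toR_comp_map {C C' : CommRingCat.{u}} (x : X ⟶ (K S).obj (op C)) (ψ : C' ⟶ C) :
    c.toR (x ≫ (K S).map ψ.op) = ψ ≫ c.toR x := by
  rw [← cancel_mono c.incl, toR_incl, ← Category.assoc, toΓ_map, Category.assoc, toR_incl]

variable {X' : Sp S} (c' : Chart X')

/-- Restriction of invariant functions along a map of spaces. -/
def res (g : X' ⟶ X) : c.R ⟶ c'.R := c'.toR (g ≫ c.canon)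

theorem canon_res (g : X' ⟶ X) : c'.canon ≫ (K S).map (c.res c' g).op = g ≫ c.canon :=
  c'.factor _

theorem res_res {X'' : Sp S} (c'' : Chart X'') (g : X' ⟶ X) (g' : X'' ⟶ X') :
    c.res c'' (g' ≫ g) = c.res c' g ≫ c'.res c'' g' := by
  rw [res, Category.assoc, ← c.canon_res c' g, ← Category.assoc, c''.toR_comp_map]
  rfl

theorem toΓ_chart_res (g : X' ⟶ X) : toΓ (c'.φ ≫ g ≫ c.canon) = c.res c' g ≫ c'.incl := rfl

/-- The chart pulled back along an affine morphism. -/
theorem exists_pull {g : X' ⟶ X} (hg : RepWith @IsAffineHom g) :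
    ∃ (c' : Chart X') (v : c'.U ⟶ c.U) (w : c'.W ⟶ c.W),
      IsPullback c'.φ ((yon S).map v) g c.φ ∧
      IsPullback ((yon S).map c'.t ≫ c'.φ) ((yon S).map w) g ((yon S).map c.t ≫ c.φ) ∧
      c'.t ≫ v = w ≫ c.t ∧ c'.s ≫ v = w ≫ c.s := by
  obtain ⟨V, v, p, sqV⟩ := hg.rep c.φ
  obtain ⟨W', w, q, sqW⟩ := hg.rep ((yon S).map c.t ≫ c.φ)
  have : IsAffineHom v.left := hg.property _ p v sqV
  have : IsAffineHom w.left := hg.property _ q w sqW
  obtain ⟨t', ht⟩ := (yon S).map_surjective (sqV.lift q ((yon S).map (w ≫ c.t))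
    (by rw [sqW.w, Functor.map_comp, Category.assoc]))
  obtain ⟨s', hs⟩ := (yon S).map_surjective (sqV.lift q ((yon S).map (w ≫ c.s))
    (by rw [sqW.w, Functor.map_comp, Category.assoc, c.w]))
  have htv : t' ≫ v = w ≫ c.t := (yon S).map_injective (by
    rw [Functor.map_comp, ht, sqV.lift_snd])
  have hsv : s' ≫ v = w ≫ c.s := (yon S).map_injective (by
    rw [Functor.map_comp, hs, sqV.lift_snd])
  have htp : (yon S).map t' ≫ p = q := by rw [ht, sqV.lift_fst]
  have hsp : (yon S).map s' ≫ p = q := by rw [hs, sqV.lift_fst]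
  have sqt : IsPullback ((yon S).map t') ((yon S).map w) ((yon S).map v) ((yon S).map c.t) :=
    IsPullback.of_right (by rw [htp]; exact sqW)
      (by rw [← Functor.map_comp, ← Functor.map_comp, htv]) sqV
  have sqs : IsPullback ((yon S).map s') ((yon S).map w) ((yon S).map v) ((yon S).map c.s) :=
    IsPullback.of_right (by rw [hsp, ← c.w]; exact sqW)
      (by rw [← Functor.map_comp, ← Functor.map_comp, hsv]) sqV
  refine ⟨⟨V, W', p, t', s', isAffine_of_isAffineHom v.left, isAffine_of_isAffineHom w.left,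
    repWith_of_isPullback sqV.flip c.et, repWith_of_isPullback sqV.flip c.surj,
    ⟨repWith_fst_of_isPullback sqt.flip ((repWith_yon_map_iff @Etale c.t).2 c.etW.1) |> fun h => h,
      repWith_fst_of_isPullback sqs.flip ((repWith_yon_map_iff @Etale c.s).2 c.etW.2)⟩,
    htp.trans hsp.symm, fun {Z} x y e => ?_⟩, v, w, sqV,
    (show IsPullback ((yon S).map t' ≫ p) ((yon S).map w) g ((yon S).map c.t ≫ c.φ) by
      rw [htp]; exact sqW), htv, hsv⟩
  obtain ⟨Z', d, k, hd, hd', hkt, hks⟩ := c.cover (x ≫ v) (y ≫ v) (by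
    rw [Functor.map_comp_assoc, Functor.map_comp_assoc, ← sqV.w, reassoc_of% e])
  obtain ⟨k', hk'⟩ := (yon S).map_surjective (sqW.lift ((yon S).map (d ≫ x) ≫ p) ((yon S).map k)
    (by rw [Category.assoc, sqV.w, ← Functor.map_comp_assoc, ← Functor.map_comp_assoc, hkt,
      Category.assoc]))
  have hkw : k' ≫ w = k := (yon S).map_injective (by rw [Functor.map_comp, hk', sqW.lift_snd])
  refine ⟨Z', d, k', hd, hd', (yon S).map_injective (sqV.hom_ext ?_ ?_),
    (yon S).map_injective (sqV.hom_ext ?_ ?_)⟩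
  · rw [Functor.map_comp, Category.assoc, htp, hk', sqW.lift_fst]
  · rw [← Functor.map_comp, ← Functor.map_comp, Category.assoc, htv, reassoc_of% hkw,
      Category.assoc, hkt]
  · rw [Functor.map_comp, Category.assoc, hsp, hk', sqW.lift_fst, Functor.map_comp_assoc,
      Functor.map_comp_assoc, e]
  · rw [← Functor.map_comp, ← Functor.map_comp, Category.assoc, hsv, reassoc_of% hkw,
      Category.assoc, hks]

end Chart

/-- Affine pullbacks of constant affine schemes are pushouts of rings. -/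
theorem isPushout_of_isPullback {A C : CommRingCat.{u}} {ψ : A ⟶ C} {U V : Over S} [IsAffine U.left]
    [IsAffine V.left] {v : V ⟶ U} {z : (yon S).obj V ⟶ (K S).obj (op C)}
    {x : (yon S).obj U ⟶ (K S).obj (op A)}
    (sq : IsPullback z ((yon S).map v) ((K S).map ψ.op) x) :
    IsPushout ψ (toΓ x) (toΓ z) v.left.appTop := by
  have w : ψ ≫ toΓ z = toΓ x ≫ v.left.appTop := by rw [← toΓ_map, sq.w, toΓ_comp]
  have key : ∀ (D : CommRingCat.{u}) (a : C ⟶ D) (b : Γ(U.left, ⊤) ⟶ D), ψ ≫ a = toΓ x ≫ b →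
      ∃! m : Γ(V.left, ⊤) ⟶ D, toΓ z ≫ m = a ∧ v.left.appTop ≫ m = b := by
    intro D a b e
    let f : Spec D ⟶ U.left := Spec.map b ≫ U.left.isoSpec.inv
    let T : Over S := Over.mk (f ≫ U.hom)
    let k : T ⟶ U := Over.homMk f rfl
    have hk : k.left.appTop ≫ (Scheme.ΓSpecIso D).hom = b := by
      show f.appTop ≫ _ = _
      simp [f, Scheme.isoSpec, Scheme.toSpecΓ_appTop]
    let za : (yon S).obj T ⟶ (K S).obj (op C) := toΓ.symm (a ≫ (Scheme.ΓSpecIso D).inv)
    obtain ⟨l, hl⟩ := (yon S).map_surjective (sq.lift za ((yon S).map k) (by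
      apply toΓ.injective
      rw [toΓ_map, toΓ_comp, Equiv.apply_symm_apply, ← cancel_mono (Scheme.ΓSpecIso D).hom]
      erw [Category.assoc, Category.assoc, Category.assoc]
      rw [Iso.inv_hom_id, Category.comp_id, hk, e]))
    refine ⟨l.left.appTop ≫ (Scheme.ΓSpecIso D).hom, ⟨?_, ?_⟩, fun m hm => ?_⟩
    · rw [← Category.assoc, ← toΓ_comp, hl, sq.lift_fst, Equiv.apply_symm_apply]
      erw [Category.assoc, Iso.inv_hom_id, Category.comp_id]
    · have hlv : l ≫ v = k := (yon S).map_injective (by rw [Functor.map_comp, hl, sq.lift_snd])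
      rw [← Category.assoc, ← Scheme.Hom.comp_appTop, ← Over.comp_left, hlv, hk]
    · let g : Spec D ⟶ V.left := Spec.map m ≫ V.left.isoSpec.inv
      have hg : g.appTop ≫ (Scheme.ΓSpecIso D).hom = m := by
        simp [g, Scheme.isoSpec, Scheme.toSpecΓ_appTop]
      have hgv : g ≫ v.left = f := ext_of_isAffine (by
        rw [Scheme.Hom.comp_appTop, ← cancel_mono (Scheme.ΓSpecIso D).hom, Category.assoc, hg, hm.2]
        exact hk.symm)
      let g' : T ⟶ V := Over.homMk g (by
        show g ≫ V.hom = f ≫ U.hom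
        exact (congrArg (g ≫ ·) (Over.w v).symm).trans
          ((Category.assoc _ _ _).symm.trans (congrArg (· ≫ U.hom) hgv)))
      have : g' = l := (yon S).map_injective (by
        rw [hl]
        refine sq.hom_ext ?_ ?_
        · rw [sq.lift_fst]
          apply toΓ.injective
          rw [toΓ_comp, Equiv.apply_symm_apply, ← cancel_mono (Scheme.ΓSpecIso D).hom]
          erw [Category.assoc, Category.assoc, hg]
          exact hm.1.trans (by simp)
        · rw [sq.lift_snd, ← Functor.map_comp]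
          exact congrArg _ (Over.OverMorphism.ext hgv))
      rw [← this]
      exact hg.symm
  refine ⟨⟨w⟩, ⟨PushoutCocone.IsColimit.mk _
    (fun c => (key c.pt c.inl c.inr c.condition).exists.choose)
    (fun c => (key c.pt c.inl c.inr c.condition).exists.choose_spec.1)
    (fun c => (key c.pt c.inl c.inr c.condition).exists.choose_spec.2)
    (fun c m h₁ h₂ => (key c.pt c.inl c.inr c.condition).unique ⟨h₁, h₂⟩
      (key c.pt c.inl c.inr c.condition).exists.choose_spec)⟩⟩

/-- The polynomial ring in one variable. -/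
def P : CommRingCat.{u} := CommRingCat.of (Polynomial (ULift.{u} ℤ))

/-- The map from the polynomial ring classifying an element. -/
def evP {D : CommRingCat.{u}} (b : D) : P.{u} ⟶ D :=
  CommRingCat.ofHom (Polynomial.eval₂RingHom
    ((Int.castRingHom D).comp (ULift.ringEquiv : ULift.{u} ℤ ≃+* ℤ).toRingHom) b)

theorem evP_X {D : CommRingCat.{u}} (b : D) : evP b (Polynomial.X : Polynomial (ULift.{u} ℤ)) = b :=
  Polynomial.eval₂_X _ _

/-- Functions extend from closed subspaces of spaces affine over the space. -/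
def Hyp (X : Sp S) : Prop :=
  ∀ ⦃Y Z : Sp S⦄, IsAlgSpace Y → ∀ (g : Y ⟶ X), RepWith @IsAffineHom g →
    ∀ (i : Z ⟶ Y), RepWith @IsClosedImmersion i → ∀ z : Z ⟶ (K S).obj (op P.{u}),
      ∃ y, i ≫ y = z

theorem Hyp.of_affine {X X' : Sp S} (h : Hyp X) {g : X' ⟶ X} (hg : RepWith @IsAffineHom g) :
    Hyp X' :=
  fun _ _ hY g' hg' => h hY (g' ≫ g) (repWith_comp hg' hg)

theorem Hyp.res_surjective {X Z : Sp S} (h : Hyp X) (hX : IsAlgSpace X) {i : Z ⟶ X}
    (hi : RepWith @IsClosedImmersion i) (c : Chart X) (c' : Chart Z) :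
    Function.Surjective (c.res c' i) := by
  intro b
  obtain ⟨z, hz⟩ := c'.exists_hom (evP b)
  obtain ⟨y, hy⟩ := h hX (𝟙 X) (repWith_isIso _) i hi z
  refine ⟨c.toR y (Polynomial.X : Polynomial (ULift.{u} ℤ)), ?_⟩
  have e : c.toR y ≫ c.res c' i = evP b := by
    rw [← cancel_mono c'.incl, Category.assoc, ← Chart.toΓ_chart_res, ← toΓ_map, Category.assoc,
      Category.assoc, c.factor, hy, hz]
  rw [← CommRingCat.comp_apply, e]
  exact evP_X b

end

end Groth.AlgSp2.Serre
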