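import Groth.Agent.AlgSp2.InfGlue
import Groth.Agent.AlgSpBasic.AffineMor
import Mathlib.AlgebraicGeometry.GammaSpecAdjunction
import Mathlib.CategoryTheory.Comma.Over.Pullback

/-!
# Constant affine schemes over the base

For a ring `C` the space `S × Spec C`; maps from `h_T` to it are ring maps `C ⟶ Γ(T, O)`.
-/

set_option autoImplicit false
set_option backward.isDefEq.respectTransparency.types false
universe u

open CategoryTheory CategoryTheory.Limits AlgebraicGeometry Opposite AlgSp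

namespace Groth.AlgSp2.Serre

open Groth.AlgSpBasic

noncomputable section

variable (S : Scheme.{u})

/-- `C ↦ S × Spec C`. -/
def KS : CommRingCat.{u}ᵒᵖ ⥤ Over S := Scheme.Spec ⋙ Over.star S

/-- `C ↦ h_{S × Spec C}`. -/
def K : CommRingCat.{u}ᵒᵖ ⥤ Sp S := KS S ⋙ yon S

variable {S}

/-- Maps into a constant affine scheme. -/
def ksEquiv (T : Over S) (C : CommRingCat.{u}) :
    (T ⟶ (KS S).obj (op C)) ≃ (C ⟶ Γ(T.left, ⊤)) :=
  ((Over.forgetAdjStar S).homEquiv T (Scheme.Spec.obj (op C))).symm.trans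
    ((ΓSpec.adjunction.homEquiv T.left (op C)).symm.trans (opEquiv _ _))

theorem ksEquiv_comp_left {T T' : Over S} (k : T' ⟶ T) {C : CommRingCat.{u}}
    (x : T ⟶ (KS S).obj (op C)) :
    ksEquiv T' C (k ≫ x) = ksEquiv T C x ≫ k.left.appTop :=
  congrArg Quiver.Hom.unop
    ((congrArg (ΓSpec.adjunction.homEquiv T'.left (op C)).symm
      ((Over.forgetAdjStar S).homEquiv_naturality_left_symm k (g := x))).trans
      (ΓSpec.adjunction.homEquiv_naturality_left_symm k.left
        (g := ((Over.forgetAdjStar S).homEquiv T (Scheme.Spec.obj (op C))).symm x)))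

theorem ksEquiv_comp_right {T : Over S} {C C' : CommRingCat.{u}} (ψ : C' ⟶ C)
    (x : T ⟶ (KS S).obj (op C)) :
    ksEquiv T C' (x ≫ (KS S).map ψ.op) = ψ ≫ ksEquiv T C x :=
  congrArg Quiver.Hom.unop
    ((congrArg (ΓSpec.adjunction.homEquiv T.left (op C')).symm
      ((Over.forgetAdjStar S).homEquiv_naturality_right_symm x (Scheme.Spec.map ψ.op))).trans
      (ΓSpec.adjunction.homEquiv_naturality_right_symm
        (((Over.forgetAdjStar S).homEquiv T (Scheme.Spec.obj (op C))).symm x) ψ.op))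

/-- Maps from representable sheaves into a constant affine scheme. -/
def toΓ {T : Over S} {C : CommRingCat.{u}} :
    ((yon S).obj T ⟶ (K S).obj (op C)) ≃ (C ⟶ Γ(T.left, ⊤)) :=
  (Functor.FullyFaithful.homEquiv (Functor.FullyFaithful.ofFullyFaithful (yon S))
    (X := T) (Y := (KS S).obj (op C))).symm.trans (ksEquiv T C)

theorem toΓ_map_yon {T : Over S} {C : CommRingCat.{u}} (x : T ⟶ (KS S).obj (op C)) :
    toΓ ((yon S).map x : (yon S).obj T ⟶ (K S).obj (op C)) = ksEquiv T C x :=
  congrArg (ksEquiv T C) ((Functor.FullyFaithful.ofFullyFaithful (yon S)).preimage_map x)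

theorem exists_yon_map {T : Over S} {C : CommRingCat.{u}}
    (x : (yon S).obj T ⟶ (K S).obj (op C)) :
    ∃ x' : T ⟶ (KS S).obj (op C), (yon S).map x' = x := (yon S).map_surjective x

theorem toΓ_comp {T T' : Over S} (k : T' ⟶ T) {C : CommRingCat.{u}}
    (x : (yon S).obj T ⟶ (K S).obj (op C)) :
    toΓ ((yon S).map k ≫ x) = toΓ x ≫ k.left.appTop := by
  obtain ⟨x, rfl⟩ := exists_yon_map x
  refine (congrArg toΓ ((yon S).map_comp k x).symm).trans ?_
  rw [toΓ_map_yon, toΓ_map_yon, ksEquiv_comp_left]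

theorem toΓ_map {T : Over S} {C C' : CommRingCat.{u}} (ψ : C' ⟶ C)
    (x : (yon S).obj T ⟶ (K S).obj (op C)) :
    toΓ (x ≫ (K S).map ψ.op) = ψ ≫ toΓ x := by
  obtain ⟨x, rfl⟩ := exists_yon_map x
  refine (congrArg toΓ ((yon S).map_comp x _).symm).trans ?_
  rw [toΓ_map_yon, toΓ_map_yon, ksEquiv_comp_right]

attribute [irreducible] toΓ

theorem isAlgSpace_K (C : CommRingCat.{u}ᵒᵖ) : IsAlgSpace ((K S).obj C) := IsAlgSpace.yon_obj _

theorem repWith_isAffineHom_K_map {C C' : CommRingCat.{u}ᵒᵖ} (ψ : C ⟶ C') :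
    RepWith @IsAffineHom ((K S).map ψ) := by
  refine (repWith_yon_map_iff @IsAffineHom ((KS S).map ψ)).2 ?_
  have sq : IsPullback (prod.map (𝟙 S) (Scheme.Spec.map ψ)) prod.snd prod.snd (Scheme.Spec.map ψ) :=
    IsPullback.mk' (prod.map_snd _ _) (fun T a b h₁ h₂ => prod.hom_ext
      (by simpa using h₁ =≫ prod.fst) h₂)
      (fun T a b w => ⟨prod.lift (a ≫ prod.fst) b, prod.hom_ext
        (by rw [Category.assoc, prod.map_fst, Category.comp_id, prod.lift_fst])
        (by rw [Category.assoc, prod.map_snd, ← Category.assoc, prod.lift_snd]; exact w.symm),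
        prod.lift_snd _ _⟩)
  have e : ((KS S).map ψ).left = prod.map (𝟙 S) (Scheme.Spec.map ψ) := by
    simp [KS, Over.star]
  rw [e]
  have : IsAffine (Scheme.Spec.obj C) := inferInstanceAs (IsAffine (Spec C.unop))
  have : IsAffine (Scheme.Spec.obj C') := inferInstanceAs (IsAffine (Spec C'.unop))
  exact MorphismProperty.of_isPullback (P := @IsAffineHom) sq.flip (isAffineHom_of_isAffine _)

end

end Groth.AlgSp2.Serre
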