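import Groth.Agent.AlgSp2.Serre.Affine
import Groth.Agent.AlgSpBasic.DecentCriteria
import Groth.Agent.AlgSpBasic.DecentTop
import Groth.Agent.AlgSpBasic.DenseSchemeQS
import Groth.Agent.AlgSpBasic.DimZeroSpace
import Groth.Agent.AlgSp3.RedInduced
import Groth.Agent.AlgSp2.Approx.SchemeStage
import Mathlib.RingTheory.Spectrum.Prime.Topology

/-!
# Spaces with vanishing obstruction over a field are affine
-/

set_option autoImplicit false
set_option linter.unusedSectionVars false
set_option backward.isDefEq.respectTransparency.types false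
universe u

open CategoryTheory CategoryTheory.Limits AlgebraicGeometry Opposite TopologicalSpace AlgSp

namespace Groth.AlgSp2.Serre

open Groth.AlgSpBasic

noncomputable section

variable {S : Scheme.{u}}

/-- A clopen subset of an affine scheme is cut out by an idempotent. -/
theorem exists_idempotent (V : Scheme.{u}) [IsAffine V] {O : Set ↥V} (hO : IsClopen O) :
    ∃ e : Γ(V, ⊤), IsIdempotentElem e ∧ (V.basicOpen e : Set ↥V) = O := by
  obtain ⟨e, he, h⟩ := PrimeSpectrum.exists_idempotent_basicOpen_eq_of_isClopen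
    (R := Γ(V, ⊤)) (s := V.isoSpec.inv ⁻¹' O) (hO.preimage V.isoSpec.inv.continuous)
  refine ⟨e, he, ?_⟩
  rw [← Scheme.toSpecΓ_preimage_basicOpen]
  ext v
  show V.isoSpec.hom v ∈ (PrimeSpectrum.basicOpen e : Set (PrimeSpectrum Γ(V, ⊤))) ↔ _
  rw [← h]
  show V.isoSpec.inv (V.isoSpec.hom v) ∈ O ↔ _
  rw [Scheme.hom_inv_apply]

theorem idempotent_ext (V : Scheme.{u}) [IsAffine V] {e e' : Γ(V, ⊤)} (he : IsIdempotentElem e)
    (he' : IsIdempotentElem e') (h : V.basicOpen e = V.basicOpen e') : e = e' := by
  refine PrimeSpectrum.basicOpen_injOn_isIdempotentElem he he' (SetLike.ext' ?_)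
  rw [← Scheme.toSpecΓ_preimage_basicOpen, ← Scheme.toSpecΓ_preimage_basicOpen] at h
  exact (Set.preimage_eq_preimage (fun p => ⟨_, Scheme.inv_hom_apply V.isoSpec p⟩)).1
    (congrArg (fun O : V.Opens => (O : Set ↥V)) h)

variable [QuasiSeparatedSpace S] {X : Sp S}

/-- If the invariant functions form a field there is at most one closed point. -/
theorem eq_of_isClosed_singleton (hX : IsAlgSpace X) (hqc : IsQuasiCompactSp X)
    (hqs : IsQuasiSeparatedSp X) (hH : Hyp X) (c : Chart X) (hK : IsField c.R)
    {x y : Points X} (hx : IsClosed {x}) (hy : IsClosed {y}) : x = y := by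
  by_contra hne
  obtain ⟨Z, i, hZ, hi, hrange, -⟩ := Groth.AlgSp3.exists_isRedInduced hX
    (C := {x} ∪ {y}) (hx.union hy)
  have hia : RepWith @IsAffineHom i :=
    repWith_mono (fun _ _ k (_ : IsClosedImmersion k) => (inferInstance : IsAffineHom k)) hi
  obtain ⟨c'⟩ := nonempty_chart hZ
    (Groth.AlgSp2.Approx.isQuasiCompactSp_of_affineMor hZ (isAffineMor_iff_repWith.2 hia) hX hqc)
    (Groth.AlgSp2.Approx.isQuasiSeparatedSp_of_affineMor hZ (isAffineMor_iff_repWith.2 hia) hqs)
  let g : ↥c'.U.left → Points X := fun v => Points.map i (Points.ofPt c'.φ v)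
  have hg : Continuous g := (Points.continuous_map i).comp (Points.continuous_ofPt c'.φ)
  have hgr : ∀ v, g v = x ∨ g v = y := fun v => by
    exact hrange.le ⟨_, rfl⟩
  have hgs : ∀ w, w = x ∨ w = y → ∃ v, g v = w := by
    intro w hw
    obtain ⟨z, hz⟩ := hrange.ge (show w ∈ ({x} ∪ {y} : Set _) from hw)
    obtain ⟨v, hv⟩ := surjective_ofPt_of_repWith c'.surj z
    exact ⟨v, by simp only [g, hv, hz]⟩
  have hO : IsClopen (g ⁻¹' {x}) := by
    refine ⟨hx.preimage hg, ?_⟩
    have : g ⁻¹' {x} = (g ⁻¹' {y})ᶜ := by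
      ext v
      simp only [Set.mem_preimage, Set.mem_singleton_iff, Set.mem_compl_iff]
      exact ⟨fun h h' => hne (h.symm.trans h'), fun h => (hgr v).resolve_right h⟩
    rw [this]
    exact (hy.preimage hg).isOpen_compl
  obtain ⟨e, he, heO⟩ := exists_idempotent c'.U.left hO
  have hinv : e ∈ c'.inv := by
    refine idempotent_ext c'.W.left (he.map _) (he.map _) (SetLike.ext' ?_)
    rw [← Scheme.preimage_basicOpen_top, ← Scheme.preimage_basicOpen_top,
      Scheme.Hom.coe_preimage, Scheme.Hom.coe_preimage, heO]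
    ext w
    have : Points.ofPt c'.φ (c'.t.left w) = Points.ofPt c'.φ (c'.s.left w) := by
      rw [← ofPt_comp_yon, c'.w, ofPt_comp_yon]
    simp only [Set.mem_preimage, g, this]
  obtain ⟨a, ha⟩ := hH.res_surjective hX hi c c' ⟨e, hinv⟩
  letI := hK.toField
  obtain ⟨v, hv⟩ := hgs x (Or.inl rfl)
  obtain ⟨v', hv'⟩ := hgs y (Or.inr rfl)
  have hve : v ∈ c'.U.left.basicOpen e := by
    rw [← SetLike.mem_coe, heO]; exact hv
  have hve' : v' ∉ c'.U.left.basicOpen e := by
    rw [← SetLike.mem_coe, heO]; exact fun h => hne (h.symm.trans hv')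
  have hnt : Nontrivial c'.R := by
    refine ⟨⟨⟨e, hinv⟩, 0, fun h => ?_⟩⟩
    rw [show e = 0 from congrArg Subtype.val h, Scheme.basicOpen_zero] at hve
    exact hve
  have hai : IsIdempotentElem a := by
    apply (c.res c' i).hom.injective
    rw [map_mul]
    show _ * _ = c.res c' i a
    rw [ha]
    exact Subtype.ext he
  rcases IsIdempotentElem.iff_eq_zero_or_one.1 hai with rfl | rfl
  · rw [map_zero] at ha
    rw [show e = 0 from (congrArg Subtype.val ha).symm, Scheme.basicOpen_zero] at hve
    exact hve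
  · rw [map_one] at ha
    rw [show e = 1 from (congrArg Subtype.val ha).symm,
      c'.U.left.basicOpen_of_isUnit isUnit_one] at hve'
    exact hve' trivial

theorem t0Space_points (hX : IsAlgSpace X) (hqs : IsQuasiSeparatedSp X) : T0Space (Points X) :=
  t0Space_of_isDecent hX (isDecent_of_qs hX hqs)

theorem exists_closed_point (hX : IsAlgSpace X) (hqc : IsQuasiCompactSp X)
    (hqs : IsQuasiSeparatedSp X) {C : Set (Points X)} (hC : IsClosed C) (hne : C.Nonempty) :
    ∃ x ∈ C, IsClosed {x} := by
  have := t0Space_points hX hqs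
  have := (isQuasiCompactSp_iff_compactSpace hX).1 hqc
  exact hC.exists_closed_singleton hne

/-- If the invariant functions form a field there is one point. -/
theorem eq_of_isField (hX : IsAlgSpace X) (hqc : IsQuasiCompactSp X)
    (hqs : IsQuasiSeparatedSp X) (hH : Hyp X) (c : Chart X) (hK : IsField c.R)
    {x : Points X} (hx : IsClosed {x}) (y : Points X) : y = x := by
  letI := hK.toField
  obtain ⟨u, rfl⟩ := surjective_ofPt_of_repWith c.surj y
  let ev : Γ(c.U.left, ⊤) ⟶ c.U.left.residueField u := c.U.left.evaluation ⊤ u trivial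
  let L := c.U.left.residueField u
  let ψ : c.R ⟶ L := c.incl ≫ ev
  have hflat : RingHom.Flat ψ.hom := by
    letI := ψ.hom.toAlgebra
    show Module.Flat c.R L
    infer_instance
  obtain ⟨c', z, v, w, -, sqV, h₁, h₂, htv, hsv⟩ := exists_bcChart c ψ
  have hzb := bijective_of_flat c hflat h₁ h₂ htv hsv
  have hK' : IsField c'.R := (RingEquiv.ofBijective z.hom hzb).symm.toMulEquiv.isField
    (Field.toIsField L)
  let p : bcSp c ψ ⟶ X := bcFst c ψ
  have hpa : RepWith @IsAffineHom p := repWith_bcFst c ψ
  have hX' := isAlgSpace_bcSp c hX ψ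
  have hqc' := Groth.AlgSp2.Approx.isQuasiCompactSp_of_affineMor hX'
    (isAffineMor_iff_repWith.2 hpa) hX hqc
  have hqs' := Groth.AlgSp2.Approx.isQuasiSeparatedSp_of_affineMor hX'
    (isAffineMor_iff_repWith.2 hpa) hqs
  obtain ⟨m, hm₁, hm₂⟩ := h₁.exists_desc (𝟙 L) ev (Category.comp_id _)
  let l : Spec L ⟶ c'.U.left := Spec.map m ≫ c'.U.left.isoSpec.inv
  have hl : l.appTop ≫ (Scheme.ΓSpecIso L).hom = m := by
    simp [l, Scheme.isoSpec, Scheme.toSpecΓ_appTop]
  have : IsClosedImmersion (Spec.map m) := IsClosedImmersion.spec_of_surjective m fun b =>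
    ⟨(z ≫ c'.incl) b, congr($hm₁ b)⟩
  have : IsClosedImmersion l := inferInstanceAs (IsClosedImmersion (Spec.map m ≫ _))
  have hlv : l ≫ v.left = c.U.left.fromSpecResidueField u := by
    refine ext_of_isAffine ?_
    rw [Scheme.Hom.comp_appTop, ← cancel_mono (Scheme.ΓSpecIso L).hom, Category.assoc]
    erw [hl]
    rw [hm₂]
    simp [ev, Scheme.evaluation, Scheme.fromSpecResidueField, Scheme.fromSpecStalk_appTop]
  let pt : ↥(Spec L) := IsLocalRing.closedPoint _
  let u' : ↥c'.U.left := l pt
  have hu' : v.left u' = u := by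
    show v.left (l pt) = u
    rw [← Scheme.Hom.comp_apply, hlv]
    exact Scheme.fromSpecResidueField_apply _ _
  -- the lifted point is closed
  have hclosed : IsClosed {Points.ofPt c'.φ u'} := by
    let ζ : c'.U.left ⟶ Spec L := c'.U.left.toSpecΓ ≫ Spec.map (z ≫ c'.incl)
    have hlζ : l ≫ ζ = 𝟙 _ := by
      refine ext_of_isAffine ?_
      rw [← cancel_mono (Scheme.ΓSpecIso L).hom, ← cancel_epi (Scheme.ΓSpecIso L).inv]
      simp only [ζ, Scheme.Hom.comp_appTop, Scheme.toSpecΓ_appTop, Scheme.Hom.id_appTop,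
        Category.assoc, Category.id_comp, Iso.inv_hom_id]
      rw [Scheme.ΓSpecIso_naturality_assoc, Iso.inv_hom_id_assoc]
      erw [hl]
      exact hm₁
    have hts : c'.t.left ≫ ζ = c'.s.left ≫ ζ := by
      simp only [ζ]
      rw [← Category.assoc, ← Category.assoc, Scheme.toSpecΓ_naturality, Scheme.toSpecΓ_naturality,
        Category.assoc, Category.assoc, ← Spec.map_comp, ← Spec.map_comp, Category.assoc,
        Category.assoc, c'.incl_w]
    have : Etale c'.s.left := c'.etW.2
    have : LocallyQuasiFinite c'.s.left := Groth.AlgSpBasic.locallyQuasiFinite_of_formallyUnramified _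
    have : QuasiCompact c'.s.left := quasiCompact_of_compactSpace _
    let Q := pullback c'.s.left l
    have : IsLocallyArtinian (Spec L) := inferInstance
    have hfin : IsFinite (pullback.snd c'.s.left l) := IsFinite.of_locallyQuasiFinite _
    have hcomp : (pullback.fst c'.s.left l ≫ c'.t.left) ≫ ζ = pullback.snd c'.s.left l := by
      rw [Category.assoc, hts, ← Category.assoc, pullback.condition, Category.assoc, hlζ,
        Category.comp_id]
    have : IsFinite ((pullback.fst c'.s.left l ≫ c'.t.left) ≫ ζ) := by rw [hcomp]; exact hfin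
    have hf : IsFinite (pullback.fst c'.s.left l ≫ c'.t.left) := IsFinite.of_comp _ ζ
    refine (isQuotientMap_ofPt c'.et c'.surj).isCoinducing.isClosed_preimage.1 ?_
    convert (pullback.fst c'.s.left l ≫ c'.t.left).isClosedMap.isClosed_range using 1
    ext a
    simp only [Set.mem_preimage, Set.mem_singleton_iff, Set.mem_range]
    constructor
    · intro h
      obtain ⟨R, p₁, p₂, sq⟩ := exists_pullback_of_diag hX'.diag c'.φ c'.φ
      obtain ⟨r, hr₁, hr₂⟩ := (ofPt_eq_ofPt_iff sq a u').1 h
      obtain ⟨Z', d, k, hd, hd', hkt, hks⟩ := c'.cover p₁ p₂ sq.w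
      obtain ⟨r', rfl⟩ := d.left.surjective r
      have e₁ : c'.t.left (k.left r') = a := by
        rw [← Scheme.Hom.comp_apply, ← Over.comp_left, hkt, Over.comp_left, Scheme.Hom.comp_apply,
          hr₁]
      have e₂ : c'.s.left (k.left r') = l pt := by
        rw [← Scheme.Hom.comp_apply, ← Over.comp_left, hks, Over.comp_left, Scheme.Hom.comp_apply,
          hr₂]
      obtain ⟨q, hq, -⟩ := Scheme.Pullback.exists_preimage_pullback (f := c'.s.left) (g := l)
        (k.left r') pt e₂
      exact ⟨q, by rw [Scheme.Hom.comp_apply, hq, e₁]⟩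
    · rintro ⟨q, rfl⟩
      rw [Scheme.Hom.comp_apply, ← ofPt_comp_yon, c'.w, ofPt_comp_yon, ← Scheme.Hom.comp_apply,
        pullback.condition, Scheme.Hom.comp_apply]
      congr 1
      exact congrArg l (Subsingleton.elim _ _)
  -- every closed point has a preimage
  have hmap : ∀ a, Points.map p (Points.ofPt c'.φ a) = Points.ofPt c.φ (v.left a) := fun a => by
    rw [Points.map_ofPt, sqV.w, ofPt_comp_yon]
  have hne : (Points.map p ⁻¹' {x}).Nonempty := by
    obtain ⟨u₀, rfl⟩ := surjective_ofPt_of_repWith c.surj x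
    have : Surjective (Spec.map ψ) := ⟨fun q => ⟨pt, by
      have : Subsingleton ↥(Spec c.R) := inferInstanceAs (Subsingleton (PrimeSpectrum c.R))
      exact Subsingleton.elim _ _⟩⟩
    have : Surjective (Spec.map v.left.appTop) := MorphismProperty.of_isPullback (P := @Surjective)
      (isPullback_SpecMap_of_isPushout _ _ _ _ h₁) ‹_›
    have : Surjective v.left := by
      have e : v.left = c'.U.left.isoSpec.hom ≫ Spec.map v.left.appTop ≫ c.U.left.isoSpec.inv := by
        rw [Scheme.isoSpec_hom_naturality_assoc, Iso.hom_inv_id, Category.comp_id]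
      rw [e]; infer_instance
    obtain ⟨a, rfl⟩ := v.left.surjective u₀
    exact ⟨_, hmap a⟩
  obtain ⟨b, hb, hbc⟩ := exists_closed_point hX' hqc' hqs'
    (hx.preimage (Points.continuous_map p)) hne
  rw [← hu', ← hmap, ← eq_of_isClosed_singleton hX' hqc' hqs' (hH.of_affine hpa) c' hK' hbc hclosed]
  exact hb

/-- A space whose invariant functions form a field is affine. -/
theorem exists_iso_affine_of_isField (hX : IsAlgSpace X) (hqc : IsQuasiCompactSp X)
    (hqs : IsQuasiSeparatedSp X) (hH : Hyp X) (c : Chart X) (hK : IsField c.R) :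
    ∃ T : Over S, IsAffine T.left ∧ Nonempty ((yon S).obj T ≅ X) := by
  letI := hK.toField
  have hne : Nonempty ↥c.U.left := by
    by_contra h
    have : IsEmpty ↥c.U.left := not_nonempty_iff.1 h
    have : Subsingleton Γ(c.U.left, ⊤) := inferInstance
    exact zero_ne_one (α := c.R) (c.incl_injective (Subsingleton.elim _ _))
  obtain ⟨u₀⟩ := hne
  obtain ⟨x, -, hx⟩ := exists_closed_point hX hqc hqs (C := Set.univ) isClosed_univ
    ⟨Points.ofPt c.φ u₀, trivial⟩
  have hall := eq_of_isField hX hqc hqs hH c hK hx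
  -- a generic point of the chart
  let u : ↥c.U.left := (isIrreducible_irreducibleComponent (x := u₀)).genericPoint
  have hu : IsGenericPoint u (irreducibleComponent u₀) := by
    have := (isIrreducible_irreducibleComponent (x := u₀)).isGenericPoint_genericPoint_closure
    rwa [isClosed_irreducibleComponent.closure_eq] at this
  have hat : HasAt (fun U u => ringKrullDim ↥(U.presheaf.stalk u) = 0) X x := by
    refine ⟨c.U, c.φ, u, c.et, hall _, ringKrullDim_eq_zero_iff.2 fun y hy => ?_⟩
    have hsub : irreducibleComponent u₀ ⊆ closure {y} := by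
      rw [← hu.def]
      exact closure_minimal (Set.singleton_subset_iff.2 (specializes_iff_mem_closure.1 hy))
        isClosed_closure
    have heq : closure {y} = irreducibleComponent u₀ :=
      eq_irreducibleComponent isIrreducible_singleton.closure.2 hsub
    exact (IsGenericPoint.eq (show IsGenericPoint y (irreducibleComponent u₀) from heq) hu)
  obtain ⟨G, ⟨e⟩⟩ := exists_iso_of_representable ⟨X, hX⟩ (isRepresentable_of_schematic ⟨X, hX⟩
    fun y => by rw [hall y]; exact isSchematicPt_of_qs hX hqs hat)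
  have hsub : Subsingleton ↥G.left := ⟨fun a b => by
    refine (AlgSp.Points.schemeHomeo G).injective ?_
    have he : Function.Injective (Points.map e.hom) := fun p q hpq => by
      have h2 := congrArg (Points.map e.inv) hpq
      rwa [← Points.map_comp, ← Points.map_comp, e.hom_inv_id, Points.map_id, Points.map_id] at h2
    exact he ((hall _).trans (hall _).symm)⟩
  refine ⟨G, ?_, ⟨e⟩⟩
  rcases isEmpty_or_nonempty ↥G.left with hG | ⟨⟨a⟩⟩
  · infer_instance
  obtain ⟨O, hO, haO, -⟩ :=
    exists_isAffineOpen_mem_and_subset (X := G.left) (x := a) (U := ⊤) trivial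
  have : O = ⊤ := top_le_iff.1 fun b _ => Subsingleton.elim a b ▸ haO
  subst this
  have : IsAffine _ := hO
  exact IsAffine.of_isIso G.left.topIso.inv

end

end Groth.AlgSp2.Serre
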