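import Groth.Agent.AlgSp2.Serre.Basic
import Groth.Agent.AdicLinTop.FlatTorsion
import Groth.Agent.DescentBase.DimEtale
import Mathlib.AlgebraicGeometry.Morphisms.FlatMono
import Mathlib.AlgebraicGeometry.Morphisms.LocalFlatDescent
import Mathlib.AlgebraicGeometry.Sites.Fpqc
import Mathlib.RingTheory.Flat.TorsionFree

/-!
# A space which is affine where a regular function is zero and where it is invertible
-/

set_option autoImplicit false
set_option linter.unusedSectionVars false
set_option linter.style.haveILetI false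
set_option backward.isDefEq.respectTransparency.types false
universe u

open CategoryTheory CategoryTheory.Limits AlgebraicGeometry Opposite TopologicalSpace AlgSp
open TensorProduct

namespace Groth.AlgSp2.Serre

open Groth.AlgSpBasic

noncomputable section

/-- Flatness of a tensor product from flatness of a pullback of spectra. -/
theorem flat_tensor_of_pullback {A Q : CommRingCat.{u}} (φ : A ⟶ Q) (C : Type u) [CommRing C]
    [Algebra A C]
    (h : Flat (pullback.fst (Spec.map (CommRingCat.ofHom (algebraMap A C))) (Spec.map φ))) :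
    letI := φ.hom.toAlgebra
    Module.Flat C (C ⊗[A] Q) := by
  let := φ.hom.toAlgebra
  rw [← RingHom.flat_algebraMap_iff, Algebra.TensorProduct.algebraMap_def]
  have h2 : Flat (Spec.map (CommRingCat.ofHom
      (Algebra.TensorProduct.includeLeftRingHom (R := A) (A := C) (B := Q)))) := by
    rw [← pullbackSpecIso_inv_fst, MorphismProperty.cancel_left_of_respectsIso @Flat]
    exact h
  exact (HasRingHomProperty.Spec_iff (P := @Flat)).1 h2

/-- The flatness criterion of `Groth.AdicLinTop.FlatTorsion` for ring maps. -/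
theorem flat_of_pieces {A Q : CommRingCat.{u}} (φ : A ⟶ Q) {f : A} (hfA : f ∈ nonZeroDivisors A)
    (hfQ : ∀ b : Q, φ f * b = 0 → b = 0)
    (h0 : Flat (pullback.fst (Spec.map (CommRingCat.ofHom (Ideal.Quotient.mk (Ideal.span {f}))))
      (Spec.map φ)))
    (h1 : Flat (pullback.fst (Spec.map (CommRingCat.ofHom (algebraMap A (Localization.Away f))))
      (Spec.map φ))) : Flat (Spec.map φ) := by
  rw [HasRingHomProperty.Spec_iff (P := @Flat)]
  algebraize [φ.hom]
  have htor : ∀ (x : Q) (n : ℕ), f ^ n • x = 0 → x = 0 := by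
    intro x n
    induction n generalizing x with
    | zero => simp
    | succ n ih =>
      intro hx
      refine ih x (hfQ _ ?_)
      rw [Algebra.smul_def, map_pow, RingHom.algebraMap_toAlgebra] at hx ⊢
      rwa [← mul_assoc, ← pow_succ']
  refine Groth.AdicLinTop.FlatTorsion.flat_of_torsion_mod_away hfA htor ?_ ?_
  · exact flat_tensor_of_pullback φ (A ⧸ Ideal.span {f}) h0
  · exact flat_tensor_of_pullback φ (Localization.Away f) h1

variable {S : Scheme.{u}} {X : Sp S}

/-- The map of the chart to the spectrum of invariant functions. -/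
abbrev toSpec (c : Chart X) : c.U.left ⟶ Spec c.R := c.U.left.toSpecΓ ≫ Spec.map c.incl

theorem comp_toSpec (c : Chart X) {Z : Scheme.{u}} (a : Z ⟶ c.U.left) :
    a ≫ toSpec c = Z.toSpecΓ ≫ Spec.map (c.incl ≫ a.appTop) := by
  rw [toSpec, Scheme.toSpecΓ_naturality_assoc, Spec.map_comp]

theorem comp_toSpec_eq (c : Chart X) {Z : Scheme.{u}} {a b : Z ⟶ c.U.left}
    (h : a ≫ toSpec c = b ≫ toSpec c) : c.incl ≫ a.appTop = c.incl ≫ b.appTop := by
  have h2 := congrArg (fun k => k.appTop) h
  simp only [toSpec, Scheme.Hom.comp_appTop, Scheme.toSpecΓ_appTop, Category.assoc] at h2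
  rw [Scheme.ΓSpecIso_naturality_assoc, Scheme.ΓSpecIso_naturality_assoc,
    cancel_epi] at h2
  exact h2

theorem toSpec_eq_of_related (c : Chart X) {Z : Over S} (x y : Z ⟶ c.U)
    (h : (yon S).map x ≫ c.φ = (yon S).map y ≫ c.φ) :
    x.left ≫ toSpec c = y.left ≫ toSpec c := by
  rw [comp_toSpec, comp_toSpec, incl_comp_eq c x y h]

/-- What affineness of a base change with unchanged invariant functions gives on the chart. -/
theorem exists_piece (c : Chart X) {C : CommRingCat.{u}} {ψ : c.R ⟶ C} {c' : Chart (bcSp c ψ)}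
    {z : C ⟶ c'.R} {v : c'.U ⟶ c.U} (sqV : IsPullback c'.φ ((yon S).map v) (bcFst c ψ) c.φ)
    (h₁ : IsPushout ψ c.incl (z ≫ c'.incl) v.left.appTop) (hz : Function.Bijective z)
    (h : Aff (bcSp c ψ)) :
    (Flat (pullback.fst (Spec.map ψ) (Spec.map c.incl)) ∧
      Surjective (pullback.fst (Spec.map ψ) (Spec.map c.incl))) ∧
    ∀ {R : Over S} {p₁ p₂ : R ⟶ c.U},
      IsPullback ((yon S).map p₁) ((yon S).map p₂) c.φ c.φ →
      ∀ {Z : Scheme.{u}} (a b : Z ⟶ c.U.left) (γ : Z ⟶ Spec C),
        a ≫ toSpec c = γ ≫ Spec.map ψ → b ≫ toSpec c = γ ≫ Spec.map ψ →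
        ∃ r : Z ⟶ R.left, r ≫ p₁.left = a ∧ r ≫ p₂.left = b := by
  obtain ⟨T, hT, ⟨e⟩⟩ := h
  obtain ⟨het, hsurj, hrel⟩ := exists_of_aff c' e
  have : IsIso z := (ConcreteCategory.isIso_iff_bijective _).2 hz
  have sqS := isPullback_SpecMap_of_isPushout _ _ _ _ h₁
  refine ⟨⟨?_, ?_⟩, ?_⟩
  · rw [← MorphismProperty.cancel_left_of_respectsIso @Flat sqS.isoPullback.hom,
      IsPullback.isoPullback_hom_fst, Spec.map_comp]
    have : Etale (Spec.map c'.incl) := (HasRingHomProperty.Spec_iff (P := @Etale)).2 het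
    infer_instance
  · rw [← MorphismProperty.cancel_left_of_respectsIso @Surjective sqS.isoPullback.hom,
      IsPullback.isoPullback_hom_fst, Spec.map_comp]
    infer_instance
  · intro R p₁ p₂ sq Z a b γ ha hb
    let lift' (x : Z ⟶ c.U.left) (hx : x ≫ toSpec c = γ ≫ Spec.map ψ) : Z ⟶ c'.U.left :=
      sqS.lift γ (x ≫ c.U.left.toSpecΓ) (by rw [Category.assoc]; exact hx.symm) ≫
        c'.U.left.isoSpec.inv
    have hl₁ : ∀ x hx, lift' x hx ≫ v.left = x := fun x hx => by
      rw [← cancel_mono c.U.left.isoSpec.hom, Category.assoc, Category.assoc,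
        ← Scheme.isoSpec_hom_naturality, Iso.inv_hom_id_assoc, IsPullback.lift_snd]
      rfl
    have hl₂ : ∀ x hx, lift' x hx ≫ toSpec c' ≫ Spec.map z = γ := fun x hx => by
      show (sqS.lift _ _ _ ≫ c'.U.left.isoSpec.inv) ≫ (c'.U.left.isoSpec.hom ≫ _) ≫ _ = γ
      simp only [Category.assoc, Iso.inv_hom_id_assoc]
      rw [← Spec.map_comp]
      exact IsPullback.lift_fst _ _ _ _
    have heq : lift' a ha ≫ toSpec c' = lift' b hb ≫ toSpec c' :=
      (cancel_mono (Spec.map z)).1 (((Category.assoc _ _ _).trans (hl₂ a ha)).trans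
        ((Category.assoc _ _ _).trans (hl₂ b hb)).symm)
    obtain ⟨hh, hrel'⟩ := hrel _ _ (comp_toSpec_eq c' heq)
    let xa : Over.mk (lift' a ha ≫ c'.U.hom) ⟶ c'.U := Over.homMk (lift' a ha) rfl
    let xb : Over.mk (lift' a ha ≫ c'.U.hom) ⟶ c'.U := Over.homMk (lift' b hb) hh.symm
    obtain ⟨r, hr⟩ := (yon S).map_surjective
      (sq.lift ((yon S).map (xa ≫ v)) ((yon S).map (xb ≫ v)) (by
        rw [Functor.map_comp, Functor.map_comp]
        refine ((Category.assoc _ _ _).trans ?_).trans (Category.assoc _ _ _).symm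
        rw [← sqV.w]
        exact ((Category.assoc _ _ _).symm.trans (congrArg (· ≫ bcFst c ψ) hrel')).trans
          (Category.assoc _ _ _)))
    refine ⟨r.left, ?_, ?_⟩
    · rw [← Over.comp_left, show r ≫ p₁ = xa ≫ v from (yon S).map_injective (by
        rw [Functor.map_comp, hr, sq.lift_fst])]
      exact hl₁ a ha
    · rw [← Over.comp_left, show r ≫ p₂ = xb ≫ v from (yon S).map_injective (by
        rw [Functor.map_comp, hr, sq.lift_snd])]
      exact hl₁ b hb

variable [QuasiSeparatedSpace S]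

/-- A space is affine if it is so where an invariant regular function is zero and where it is
invertible. -/
theorem aff_of_regular (hX : IsAlgSpace X) (hqs : IsQuasiSeparatedSp X) (hH : Hyp X) (c : Chart X)
    (f : c.R) (hfA : f ∈ nonZeroDivisors c.R) (hfB : ∀ b, c.incl f * b = 0 → b = 0)
    (h0 : Aff (bcSp c (quot c (Ideal.span {f}))))
    (h1 : Aff (bcSp c (CommRingCat.ofHom (algebraMap c.R (Localization.Away f))))) : Aff X := by
  let A := c.R
  let ψ₀ := quot c (Ideal.span {f})
  let ψ₁ : A ⟶ CommRingCat.of (Localization.Away f) :=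
    CommRingCat.ofHom (algebraMap c.R (Localization.Away f))
  obtain ⟨c₀, z₀, v₀, w₀, hres₀, sqV₀, h₁₀, -, -, -⟩ := exists_bcChart c ψ₀
  obtain ⟨c₁, z₁, v₁, w₁, -, sqV₁, h₁₁, h₂₁, htv₁, hsv₁⟩ := exists_bcChart c ψ₁
  have hz₀ : Function.Bijective z₀ := by
    refine ⟨(injective_iff_map_eq_zero z₀.hom).2 fun a ha => ?_, fun x => ?_⟩
    · obtain ⟨a, rfl⟩ := Ideal.Quotient.mk_surjective a
      have h2 : v₀.left.appTop (c.incl a) = 0 := by
        have := congr($(h₁₀.w) a)
        simp only [CommRingCat.comp_apply] at this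
        rw [← this]
        exact (congrArg c₀.incl ha).trans (map_zero _)
      have h3 := exists_of_pushout_quotient h₁₀ h2
      rw [Ideal.map_span, Set.image_singleton, Ideal.mem_span_singleton'] at h3
      obtain ⟨b, hb⟩ := h3
      have hW : IsSMulRegular Γ(c.W.left, ⊤) (c.t.left.appTop (c.incl f)) := by
        have : Etale c.t.left := c.etW.1
        have hfl : RingHom.Flat c.t.left.appTop.hom :=
          HasRingHomProperty.appTop (P := @Flat) _ (inferInstance : Flat c.t.left)
        algebraize [c.t.left.appTop.hom]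
        have := Module.Flat.isSMulRegular_of_nonZeroDivisors (M := Γ(c.W.left, ⊤))
          (r := c.incl f) (mem_nonZeroDivisors_iff_right.2 fun x hx => hfB x (by rwa [mul_comm]))
        intro x y hxy
        exact this (by simpa [Algebra.smul_def, RingHom.algebraMap_toAlgebra] using hxy)
      have hinv : b ∈ c.inv := hW (by
        show c.t.left.appTop (c.incl f) * c.t.left.appTop b =
          c.t.left.appTop (c.incl f) * c.s.left.appTop b
        have e1 := congr($(c.incl_w) a)
        have e2 := congr($(c.incl_w) f)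
        simp only [CommRingCat.comp_apply] at e1 e2
        rw [← map_mul, mul_comm (c.incl f) b]
        erw [hb]
        rw [e1, ← hb]
        show c.s.left.appTop (b * c.incl f) = _
        rw [map_mul, mul_comm, e2])
      refine Ideal.Quotient.eq_zero_iff_mem.2 (Ideal.mem_span_singleton'.2 ⟨⟨b, hinv⟩, ?_⟩)
      exact c.incl_injective hb
    · obtain ⟨a, ha⟩ := hH.res_surjective hX (repWith_closed_quot c _) c c₀ x
      exact ⟨ψ₀ a, by rw [← CommRingCat.comp_apply, ← hres₀, ha]⟩
  have hψ₁ : RingHom.Flat ψ₁.hom := RingHom.flat_algebraMap_iff.2 inferInstance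
  have hz₁ := bijective_of_flat c hψ₁ h₁₁ h₂₁ htv₁ hsv₁
  obtain ⟨⟨hfl₀, hsu₀⟩, hlift₀⟩ := exists_piece c sqV₀ h₁₀ hz₀ h0
  obtain ⟨⟨hfl₁, hsu₁⟩, hlift₁⟩ := exists_piece c sqV₁ h₁₁ hz₁ h1
  have hcov : ∀ t : ↥(Spec A),
      t ∈ Set.range (Spec.map ψ₀) ∨ t ∈ Set.range (Spec.map ψ₁) := fun t => by
    by_cases ht : f ∈ t.asIdeal
    · refine Or.inl ((Set.ext_iff.1
        (range_comap_of_surjective _ _ Ideal.Quotient.mk_surjective) t).2 ?_)
      rw [Ideal.mk_ker]
      exact PrimeSpectrum.mem_zeroLocus _ _ |>.2 ((Ideal.span_singleton_le_iff_mem _).2 ht)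
    · refine Or.inr ?_
      show t ∈ Set.range (PrimeSpectrum.comap (algebraMap c.R (Localization.Away f)))
      rw [PrimeSpectrum.localization_away_comap_range (Localization.Away f) f]
      exact ht
  have hqflat : Flat (Spec.map c.incl) := flat_of_pieces c.incl hfA hfB hfl₀ hfl₁
  have hqsurj : Surjective (Spec.map c.incl) := ⟨fun t => by
    rcases hcov t with ⟨t', ht'⟩ | ⟨t', ht'⟩
    · obtain ⟨x, hx⟩ := hsu₀.surj t'
      exact ⟨pullback.snd (Spec.map ψ₀) (Spec.map c.incl) x, by
        rw [← Scheme.Hom.comp_apply, ← pullback.condition, Scheme.Hom.comp_apply, hx, ht']⟩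
    · obtain ⟨x, hx⟩ := hsu₁.surj t'
      exact ⟨pullback.snd (Spec.map ψ₁) (Spec.map c.incl) x, by
        rw [← Scheme.Hom.comp_apply, ← pullback.condition, Scheme.Hom.comp_apply, hx, ht']⟩⟩
  have : IsIso c.U.left.toSpecΓ := inferInstanceAs (IsIso c.U.left.isoSpec.hom)
  let q := toSpec c
  have hqf : Flat q := inferInstance
  have hqs' : Surjective q := inferInstance
  obtain ⟨R, p₁, p₂, sq⟩ := exists_pullback_of_diag hX.diag c.φ c.φ
  have : CompactSpace R.left := Groth.SpLimit.compactSpace_pullback_of_qs hqs sq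
  have hp₁ : Etale p₁.left := repWith_fst_of_isPullback sq.flip c.et
  have hq₁₂ : p₁.left ≫ q = p₂.left ≫ q := toSpec_eq_of_related c p₁ p₂ sq.w
  let π : R.left ⟶ pullback q q := pullback.lift p₁.left p₂.left hq₁₂
  let pr : pullback q q ⟶ Spec A := pullback.fst q q ≫ q
  have l₁ : π ≫ pullback.fst q q = p₁.left := pullback.lift_fst _ _ _
  have l₂ : π ≫ pullback.snd q q = p₂.left := pullback.lift_snd _ _ _
  have hmono : Mono π := ⟨fun {Z} r r' h => by
    have e₁ : r ≫ p₁.left = r' ≫ p₁.left := by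
      rw [← l₁, ← Category.assoc, ← Category.assoc, h]
    have e₂ : r ≫ p₂.left = r' ≫ p₂.left := by
      rw [← l₂, ← Category.assoc, ← Category.assoc, h]
    have hh : r' ≫ R.hom = r ≫ R.hom := by
      rw [← Over.w p₁, ← Category.assoc, ← e₁, Category.assoc]
    let x : Over.mk (r ≫ R.hom) ⟶ R := Over.homMk r rfl
    let y : Over.mk (r ≫ R.hom) ⟶ R := Over.homMk r' hh
    have hxy : x = y := (yon S).map_injective (sq.hom_ext
      (by rw [← Functor.map_comp, ← Functor.map_comp,
        show x ≫ p₁ = y ≫ p₁ from Over.OverMorphism.ext e₁])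
      (by rw [← Functor.map_comp, ← Functor.map_comp,
        show x ≫ p₂ = y ≫ p₂ from Over.OverMorphism.ext e₂]))
    exact congrArg CommaMorphism.left hxy⟩
  have hiso : ∀ {Z : Scheme.{u}} (δ : Z ⟶ pullback q q),
      ((∃ γ, δ ≫ pr = γ ≫ Spec.map ψ₀) ∨ ∃ γ, δ ≫ pr = γ ≫ Spec.map ψ₁) →
      IsIso (pullback.fst δ π) := by
    intro Z δ hδ
    have : ∃ r : Z ⟶ R.left, r ≫ π = δ := by
      have hb : (δ ≫ pullback.snd q q) ≫ q = δ ≫ pr := by
        rw [Category.assoc, ← pullback.condition]
      have ha : (δ ≫ pullback.fst q q) ≫ q = δ ≫ pr := Category.assoc _ _ _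
      rcases hδ with ⟨γ, hγ⟩ | ⟨γ, hγ⟩
      · obtain ⟨r, hr₁, hr₂⟩ := hlift₀ sq _ _ γ (ha.trans hγ) (hb.trans hγ)
        exact ⟨r, pullback.hom_ext (by rw [Category.assoc, l₁, hr₁]) (by rw [Category.assoc, l₂, hr₂])⟩
      · obtain ⟨r, hr₁, hr₂⟩ := hlift₁ sq _ _ γ (ha.trans hγ) (hb.trans hγ)
        exact ⟨r, pullback.hom_ext (by rw [Category.assoc, l₁, hr₁]) (by rw [Category.assoc, l₂, hr₂])⟩
    obtain ⟨r, hr⟩ := this
    have : IsSplitEpi (pullback.fst δ π) :=
      ⟨⟨⟨pullback.lift (𝟙 Z) r (by rw [Category.id_comp, hr]), pullback.lift_fst _ _ _⟩⟩⟩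
    exact isIso_of_mono_of_isSplitEpi _
  have hsurjπ : Surjective π := ⟨fun p => by
    rcases hcov (pr p) with ⟨t, ht⟩ | ⟨t, ht⟩
    · obtain ⟨x, hx, -⟩ := Scheme.Pullback.exists_preimage_pullback p t ht.symm
      have := hiso (pullback.fst pr (Spec.map ψ₀)) (Or.inl ⟨_, pullback.condition⟩)
      refine ⟨pullback.snd _ π ((inv (pullback.fst (pullback.fst pr (Spec.map ψ₀)) π)) x), ?_⟩
      rw [← Scheme.Hom.comp_apply, ← pullback.condition, Scheme.Hom.comp_apply,
        ← Scheme.Hom.comp_apply (inv _), IsIso.inv_hom_id]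
      exact hx
    · obtain ⟨x, hx, -⟩ := Scheme.Pullback.exists_preimage_pullback p t ht.symm
      have := hiso (pullback.fst pr (Spec.map ψ₁)) (Or.inr ⟨_, pullback.condition⟩)
      refine ⟨pullback.snd _ π ((inv (pullback.fst (pullback.fst pr (Spec.map ψ₁)) π)) x), ?_⟩
      rw [← Scheme.Hom.comp_apply, ← pullback.condition, Scheme.Hom.comp_apply,
        ← Scheme.Hom.comp_apply (inv _), IsIso.inv_hom_id]
      exact hx⟩
  have hflatπ : Flat π := by
    let P := pullback q q
    let M : CommRingCat.{u} := Γ(P, ⊤)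
    have : IsAffine P := inferInstanceAs (IsAffine (pullback q q))
    let α : A ⟶ M := Spec.preimage (P.isoSpec.inv ≫ pr)
    have hα : Spec.map α = P.isoSpec.inv ≫ pr := Spec.map_preimage _
    suffices hloc : ∀ (Q : CommRingCat.{u}) (j : Spec Q ⟶ R.left), IsOpenImmersion j →
        Flat (j ≫ π) by
      rw [IsZariskiLocalAtSource.iff_of_openCover (P := @Flat) R.left.affineCover]
      intro i
      exact hloc _ (R.left.affineCover.f i) (R.left.affineCover.map_prop i)
    intro Q j hj
    let φ : M ⟶ Q := Spec.preimage (j ≫ π ≫ P.isoSpec.hom)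
    have hφ : Spec.map φ = j ≫ π ≫ P.isoSpec.hom := Spec.map_preimage _
    rw [← MorphismProperty.cancel_right_of_respectsIso @Flat _ P.isoSpec.hom, Category.assoc, ← hφ]
    have hflα : RingHom.Flat α.hom := by
      rw [← HasRingHomProperty.Spec_iff (P := @Flat), hα]
      infer_instance
    have hflαφ : RingHom.Flat (α ≫ φ).hom := by
      rw [← HasRingHomProperty.Spec_iff (P := @Flat), Spec.map_comp, hφ, hα]
      have : π ≫ pr = p₁.left ≫ q := by rw [← l₁, Category.assoc]
      erw [Category.assoc, Category.assoc, Iso.hom_inv_id_assoc, this]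
      infer_instance
    have hreg : ∀ {D : CommRingCat.{u}} (g : A ⟶ D), RingHom.Flat g.hom →
        ∀ b, g f * b = 0 → b = 0 := by
      intro D g hg b hb
      algebraize [g.hom]
      refine Module.Flat.isSMulRegular_of_nonZeroDivisors (M := D) hfA ?_
      simpa [Algebra.smul_def, RingHom.algebraMap_toAlgebra] using hb
    have key : ∀ {D : CommRingCat.{u}} (χ : M ⟶ D),
        ((∃ γ, Spec.map χ ≫ P.isoSpec.inv ≫ pr = γ ≫ Spec.map ψ₀) ∨
          ∃ γ, Spec.map χ ≫ P.isoSpec.inv ≫ pr = γ ≫ Spec.map ψ₁) →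
        Flat (pullback.fst (Spec.map χ) (Spec.map φ)) := by
      intro D χ hχ
      let δ := Spec.map χ ≫ P.isoSpec.inv
      have hiso' := hiso δ (by simpa only [δ, Category.assoc] using hχ)
      let sqb : IsPullback (pullback.fst δ (j ≫ π)) (pullback.snd δ (j ≫ π)) δ (j ≫ π) :=
        IsPullback.of_hasPullback _ _
      have hsq : IsPullback (pullback.fst δ (j ≫ π)) (pullback.snd δ (j ≫ π))
          (Spec.map χ) (Spec.map φ) := by
        rw [hφ]
        refine sqb.of_iso (Iso.refl _) (Iso.refl _) (Iso.refl _) P.isoSpec ?_ ?_ ?_ ?_ <;>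
          simp [δ]
      rw [← MorphismProperty.cancel_left_of_respectsIso @Flat hsq.isoPullback.hom,
        IsPullback.isoPullback_hom_fst,
        ← MorphismProperty.cancel_left_of_respectsIso @Flat (pullbackLeftPullbackSndIso δ π j).hom,
        pullbackLeftPullbackSndIso_hom_fst]
      infer_instance
    refine flat_of_pieces φ (f := α f) (mem_nonZeroDivisors_iff_right.2 fun x hx =>
      hreg α hflα x (by rwa [mul_comm])) (hreg (α ≫ φ) hflαφ) ?_ ?_
    · refine key _ (Or.inl ?_)
      obtain ⟨g, hg⟩ : ∃ g, ψ₀ ≫ g = α ≫ CommRingCat.ofHom (Ideal.Quotient.mk (Ideal.span {α f})) :=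
        ⟨CommRingCat.ofHom (Ideal.Quotient.lift _ ((Ideal.Quotient.mk _).comp α.hom) fun a ha => by
          obtain ⟨b, rfl⟩ := Ideal.mem_span_singleton'.1 ha
          exact Ideal.Quotient.eq_zero_iff_mem.2
            (Ideal.mem_span_singleton'.2 ⟨α b, (map_mul α.hom b f).symm⟩)),
          CommRingCat.hom_ext (RingHom.ext fun a => rfl)⟩
      refine ⟨Spec.map g, ?_⟩
      rw [← hα, ← Spec.map_comp, ← Spec.map_comp, hg]
    · refine key _ (Or.inr ?_)
      obtain ⟨g, hg⟩ : ∃ g, ψ₁ ≫ g =
          α ≫ CommRingCat.ofHom (algebraMap M (Localization.Away (α f))) :=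
        ⟨CommRingCat.ofHom (IsLocalization.Away.lift f
          (g := (algebraMap M (Localization.Away (α f))).comp α.hom)
          (IsLocalization.Away.algebraMap_isUnit (α f))),
          CommRingCat.hom_ext (RingHom.ext fun a =>
            IsLocalization.Away.lift_eq (S := Localization.Away f) f
              (g := (algebraMap M (Localization.Away (α f))).comp α.hom)
              (IsLocalization.Away.algebraMap_isUnit (α f)) a)⟩
      refine ⟨Spec.map g, ?_⟩
      rw [← hα, ← Spec.map_comp, ← Spec.map_comp, hg]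
  have : IsAffine (pullback q q) := inferInstance
  have hπqc : QuasiCompact π := quasiCompact_of_compactSpace _
  have hπiso : IsIso π := Flat.isIso_of_surjective_of_mono π
  have hfst : Etale (pullback.fst q q) := by
    rw [← MorphismProperty.cancel_left_of_respectsIso @Etale π, pullback.lift_fst]
    exact hp₁
  have hQ : (@Surjective ⊓ @Flat ⊓ @QuasiCompact : MorphismProperty Scheme.{u}) q :=
    ⟨⟨hqs', hqf⟩, inferInstance⟩
  have hqe : Etale q := MorphismProperty.of_isPullback_of_descendsAlong (P := @Etale)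
    (Q := @Surjective ⊓ @Flat ⊓ @QuasiCompact) (IsPullback.of_hasPullback q q) hQ hfst
  -- descend the structure morphism
  have : EffectiveEpi q := inferInstance
  have hhom : pullback.fst q q ≫ c.U.hom = pullback.snd q q ≫ c.U.hom := by
    rw [← cancel_epi π, pullback.lift_fst_assoc, pullback.lift_snd_assoc, Over.w, Over.w]
  have hdesc : ∀ {Z : Scheme.{u}} (g₁ g₂ : Z ⟶ c.U.left), g₁ ≫ q = g₂ ≫ q →
      g₁ ≫ c.U.hom = g₂ ≫ c.U.hom := fun g₁ g₂ h => by
    have := congrArg (pullback.lift g₁ g₂ h ≫ ·) hhom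
    exact (pullback.lift_fst_assoc g₁ g₂ h c.U.hom).symm.trans
      (this.trans (pullback.lift_snd_assoc g₁ g₂ h c.U.hom))
  let T : Over S := Over.mk (EffectiveEpi.desc q c.U.hom hdesc)
  let qO : c.U ⟶ T := Over.homMk q (EffectiveEpi.fac q c.U.hom hdesc)
  have hqOe : RepWith @Etale ((yon S).map qO) := (repWith_yon_map_iff @Etale qO).2 hqe
  have hqOs : RepWith @Surjective ((yon S).map qO) := (repWith_yon_map_iff @Surjective qO).2 hqs'
  obtain ⟨Fwd, hFwd⟩ := exists_desc_of_etale c.φ c.et c.surj ((yon S).map qO) fun Z x y e => by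
    obtain ⟨x, rfl⟩ := (yon S).map_surjective x
    obtain ⟨y, rfl⟩ := (yon S).map_surjective y
    rw [← Functor.map_comp, ← Functor.map_comp]
    exact congrArg _ (Over.OverMorphism.ext (toSpec_eq_of_related c x y e))
  obtain ⟨Bwd, hBwd⟩ := exists_desc_of_etale ((yon S).map qO) hqOe hqOs c.φ fun Z x y e => by
    obtain ⟨x, rfl⟩ := (yon S).map_surjective x
    obtain ⟨y, rfl⟩ := (yon S).map_surjective y
    rw [← Functor.map_comp, ← Functor.map_comp] at e
    have e' : x.left ≫ q = y.left ≫ q := congrArg CommaMorphism.left ((yon S).map_injective e)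
    let r := pullback.lift x.left y.left e' ≫ inv π
    have h₁ : r ≫ p₁.left = x.left := by
      rw [Category.assoc, show p₁.left = π ≫ pullback.fst q q from (pullback.lift_fst _ _ _).symm,
        IsIso.inv_hom_id_assoc, pullback.lift_fst]
    have h₂ : r ≫ p₂.left = y.left := by
      rw [Category.assoc, show p₂.left = π ≫ pullback.snd q q from (pullback.lift_snd _ _ _).symm,
        IsIso.inv_hom_id_assoc, pullback.lift_snd]
    let rO : Z ⟶ R := Over.homMk r (by rw [← Over.w p₁, reassoc_of% h₁, Over.w])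
    rw [← show rO ≫ p₁ = x from Over.OverMorphism.ext h₁,
      ← show rO ≫ p₂ = y from Over.OverMorphism.ext h₂, Functor.map_comp, Functor.map_comp,
      Category.assoc, Category.assoc, sq.w]
  exact ⟨T, inferInstanceAs (IsAffine (Spec A)), ⟨⟨Bwd, Fwd,
    hom_ext_of_etale ((yon S).map qO) hqOe hqOs (by rw [reassoc_of% hBwd, hFwd, Category.comp_id]),
    hom_ext_of_etale c.φ c.et c.surj (by rw [reassoc_of% hFwd, hBwd, Category.comp_id])⟩⟩⟩

end

end Groth.AlgSp2.Serre
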