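import Groth.Agent.AlgSp2.Serre.Basic
import Groth.Agent.SpLimit.AffineEventual
import Mathlib.Algebra.Category.Ring.FilteredColimits
import Mathlib.RingTheory.Localization.AsSubring
import Mathlib.RingTheory.Localization.FractionRing

/-!
# Affineness of base changes is eventual in filtered colimits of rings
-/

set_option autoImplicit false
set_option linter.unusedSectionVars false
set_option linter.style.haveILetI false
set_option backward.isDefEq.respectTransparency.types false
universe u

open CategoryTheory CategoryTheory.Limits AlgebraicGeometry Opposite AlgSp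

namespace Groth.AlgSp2.Serre

open Groth.AlgSpBasic Groth.SpLimit

noncomputable section

variable {S : Scheme.{u}}

instance : PreservesLimitsOfSize.{u, u} (KS S) := by
  have : Scheme.Spec.{u}.IsRightAdjoint := ⟨_, ⟨ΓSpec.adjunction⟩⟩
  have : (Over.star S).IsRightAdjoint := ⟨_, ⟨Over.forgetAdjStar S⟩⟩
  unfold KS
  infer_instance

instance : PreservesLimitsOfSize.{u, u} (K S) := by
  unfold K
  infer_instance

variable [QuasiSeparatedSpace S] {X : Sp S} (hX : IsAlgSpace X) (hqc : IsQuasiCompactSp X)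
  (hqs : IsQuasiSeparatedSp X) (c : Chart X)

include hX hqc hqs in
/-- If the base change to a filtered colimit is affine, then so is the base change to some stage. -/
theorem exists_aff_stage {J : Type u} [SmallCategory J] [IsFiltered J]
    {F : J ⥤ CommRingCat.{u}} {σ : Cocone F} (hσ : IsColimit σ)
    (ν : (Functor.const J).obj c.R ⟶ F) (j₀ : J)
    (h : Aff (bcSp c (ν.app j₀ ≫ σ.ι.app j₀))) : ∃ j, Aff (bcSp c (ν.app j)) := by
  let D : Jᵒᵖ ⥤ Sp S := F.op ⋙ K S
  let t : D ⟶ (Functor.const Jᵒᵖ).obj ((K S).obj (op c.R)) :=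
    { app := fun j => (K S).map (ν.app j.unop).op
      naturality := fun i j m => by
        show (K S).map (F.map m.unop).op ≫ (K S).map (ν.app j.unop).op =
          (K S).map (ν.app i.unop).op ≫ 𝟙 _
        rw [Category.comp_id, ← Functor.map_comp, ← op_comp, ← ν.naturality]
        simp }
  let g : (K S).obj (op σ.pt) ⟶ (K S).obj (op c.R) := (K S).map (ν.app j₀ ≫ σ.ι.app j₀).op
  have := IsFiltered.isConnected J
  have : IsConnected Jᵒᵖ := isConnected_op
  have hconst : ∀ j, ν.app j ≫ σ.ι.app j = ν.app j₀ ≫ σ.ι.app j₀ := fun j =>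
    constant_of_preserves_morphisms (fun j => ν.app j ≫ σ.ι.app j) (fun i j m => by
      have := ν.naturality m
      simp only [Functor.const_obj_map, Category.id_comp] at this
      refine (congrArg (ν.app i ≫ ·) (σ.w m)).symm.trans ?_
      exact (Category.assoc _ _ _).symm.trans (congrArg (· ≫ σ.ι.app j) this.symm)) j j₀
  have hg : ∀ j, ((K S).mapCone σ.op).π.app j ≫ t.app j = g := fun j => by
    show (K S).map (σ.ι.app j.unop).op ≫ (K S).map (ν.app j.unop).op = _
    rw [← Functor.map_comp, ← op_comp, hconst]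
  obtain ⟨hl⟩ := nonempty_isLimit_bcCone t c.canon (c := (K S).mapCone σ.op) hg
    (isLimitOfPreserves (K S) hσ.op)
  have hD : ∀ j, IsAlgSpace ((bcSys t c.canon).obj j) := fun j =>
    isAlgSpace_pullback ⟨_, isAlgSpace_K _⟩ ⟨_, hX⟩ ⟨_, isAlgSpace_K _⟩ _ _
  have ha : ∀ j, RepWith @IsAffineHom (pullback.snd (t.app j) c.canon) := fun j =>
    repWith_of_isPullback (IsPullback.of_hasPullback (t.app j) c.canon) (repWith_isAffineHom_K_map _)
  obtain ⟨T, hT, ⟨e⟩⟩ := h
  obtain ⟨j, T', hT', ⟨e'⟩⟩ := exists_affine_of_limit (D := bcSys t c.canon) hD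
    (fun i j m => isAffineMor_iff_repWith.2 (repWith_of_isPullback (isPullback_bcSys_map t c.canon m)
      (repWith_isAffineHom_K_map _))) hl
    (fun j => Groth.AlgSp2.Approx.isQuasiCompactSp_of_affineMor (hD j)
      (isAffineMor_iff_repWith.2 (ha j)) hX hqc)
    (fun j => Groth.AlgSp2.Approx.isQuasiSeparatedSp_of_affineMor (hD j)
      (isAffineMor_iff_repWith.2 (ha j)) hqs)
    T (e ≪≫ pullbackSymmetry _ _)
  exact ⟨j.unop, T', hT', ⟨e' ≪≫ (pullbackSymmetry _ _ : _ ≅ bcSp c (ν.app j.unop))⟩⟩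

/-- A cocone of rings over a filtered category is a colimit if it is jointly surjective and
jointly injective. -/
def isColimitOfJointly {J : Type u} [SmallCategory J] [IsFiltered J]
    {F : J ⥤ CommRingCat.{u}} (σ : Cocone F)
    (hs : ∀ x : σ.pt, ∃ j a, σ.ι.app j a = x)
    (hi : ∀ i j (a : F.obj i) (b : F.obj j), σ.ι.app i a = σ.ι.app j b →
      ∃ (k : J) (f : i ⟶ k) (g : j ⟶ k), F.map f a = F.map g b) : IsColimit σ :=
  have : ReflectsColimit F (forget CommRingCat.{u}) :=
    (reflectsColimitsOfShape_of_reflectsIsomorphisms (G := forget CommRingCat.{u})).reflectsColimit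
  isColimitOfReflects (forget CommRingCat.{u})
    (Types.FilteredColimit.isColimitOf _ _
      (fun x => by obtain ⟨j, a, h⟩ := hs x; exact ⟨j, a, h.symm⟩)
      (fun i j a b h => hi i j a b h))

include hX hqc hqs in
/-- An ideal with affine closed subspace contains an ideal of a chain with affine closed subspace. -/
theorem exists_aff_of_chain {s : Set (Ideal c.R)} (hs : IsChain (· ≤ ·) s) (hne : s.Nonempty)
    (h : Aff (bcSp c (quot c (sSup s)))) : ∃ J ∈ s, Aff (bcSp c (quot c J)) := by
  have : Nonempty ↥s := hne.to_subtype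
  have : IsDirected ↥s (· ≤ ·) := ⟨fun a b => by
    rcases hs.total a.2 b.2 with h | h
    · exact ⟨b, h, le_rfl⟩
    · exact ⟨a, le_rfl, h⟩⟩
  let F : ↥s ⥤ CommRingCat.{u} :=
    { obj := fun J => CommRingCat.of (c.R ⧸ (J : Ideal c.R))
      map := fun {I J} m => CommRingCat.ofHom (Ideal.Quotient.factor (leOfHom m))
      map_id := fun J => CommRingCat.hom_ext (Ideal.Quotient.ringHom_ext (RingHom.ext fun a => rfl))
      map_comp := fun m n =>
        CommRingCat.hom_ext (Ideal.Quotient.ringHom_ext (RingHom.ext fun a => rfl)) }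
  let σ : Cocone F :=
    { pt := CommRingCat.of (c.R ⧸ sSup s)
      ι :=
        { app := fun J => CommRingCat.ofHom (Ideal.Quotient.factor (le_sSup J.2))
          naturality := fun I J m =>
            CommRingCat.hom_ext (Ideal.Quotient.ringHom_ext (RingHom.ext fun a => rfl)) } }
  let ν : (Functor.const ↥s).obj c.R ⟶ F :=
    { app := fun J => quot c J
      naturality := fun I J m => CommRingCat.hom_ext (RingHom.ext fun a => rfl) }
  have hσ : IsColimit σ := by
    refine isColimitOfJointly σ (fun x => ?_) fun I J a b hab => ?_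
    · obtain ⟨a, rfl⟩ := Ideal.Quotient.mk_surjective x
      exact ⟨Classical.arbitrary _, Ideal.Quotient.mk _ a, rfl⟩
    · obtain ⟨a, rfl⟩ := Ideal.Quotient.mk_surjective a
      obtain ⟨b, rfl⟩ := Ideal.Quotient.mk_surjective b
      replace hab : Ideal.Quotient.mk (sSup s) a = Ideal.Quotient.mk (sSup s) b := hab
      rw [Ideal.Quotient.eq, Submodule.mem_sSup_of_directed hne hs.directedOn] at hab
      obtain ⟨K, hK, hab⟩ := hab
      obtain ⟨L₁, hIL, hJL⟩ := exists_ge_ge I J
      obtain ⟨L, hL, hKL⟩ := exists_ge_ge L₁ ⟨K, hK⟩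
      exact ⟨L, homOfLE (hIL.trans hL), homOfLE (hJL.trans hL),
        (Ideal.Quotient.eq.2 (hKL hab) : Ideal.Quotient.mk (L : Ideal c.R) a = _)⟩
  let J₀ : ↥s := Classical.arbitrary _
  have e : ν.app J₀ ≫ σ.ι.app J₀ = quot c (sSup s) := CommRingCat.hom_ext (RingHom.ext fun a => rfl)
  obtain ⟨J, hJ⟩ := exists_aff_stage hX hqc hqs c hσ ν J₀ (by rw [e]; exact h)
  exact ⟨J, J.2, hJ⟩

include hX hqc hqs in
/-- If the generic base change is affine, so is the base change to some localization. -/
theorem exists_aff_away [IsDomain c.R]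
    (h : Aff (bcSp c (CommRingCat.ofHom (algebraMap c.R (FractionRing c.R))))) :
    ∃ (f : c.R) (C : CommRingCat.{u}) (ψ : c.R ⟶ C), f ≠ 0 ∧
      @IsLocalization.Away _ _ f C _ ψ.hom.toAlgebra ∧ Aff (bcSp c ψ) := by
  let J := {f : c.R // f ≠ 0}
  letI : Preorder J :=
    { le := fun f g => (f : c.R) ∣ g
      le_refl := fun f => dvd_refl _
      le_trans := fun f g k => dvd_trans }
  have : Nonempty J := ⟨⟨1, one_ne_zero⟩⟩
  have : IsDirected J (· ≤ ·) :=
    ⟨fun f g => ⟨⟨f.1 * g.1, mul_ne_zero f.2 g.2⟩, dvd_mul_right _ _, dvd_mul_left _ _⟩⟩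
  let L := FractionRing c.R
  have hS : ∀ f : J, Submonoid.powers (f : c.R) ≤ nonZeroDivisors c.R := fun f =>
    Submonoid.powers_le.2 (mem_nonZeroDivisors_of_ne_zero f.2)
  let A : J → Subalgebra c.R L := fun f => Localization.subalgebra.ofField L _ (hS f)
  have hA : ∀ {f g : J}, f ≤ g → A f ≤ A g := by
    rintro f g ⟨d, hd⟩ x hx
    obtain ⟨a, b, ⟨n, rfl⟩, rfl⟩ := hx
    refine ⟨a * d ^ n, (g : c.R) ^ n, ⟨n, rfl⟩, ?_⟩
    have hd0 : d ≠ 0 := fun h0 => g.2 (by rw [hd, h0, mul_zero])
    rw [hd, mul_pow, map_mul, map_mul, mul_inv]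
    have : algebraMap c.R L (d ^ n) ≠ 0 :=
      (map_ne_zero_iff _ (IsFractionRing.injective c.R L)).2 (pow_ne_zero _ hd0)
    rw [mul_comm (algebraMap c.R L ((f : c.R) ^ n))⁻¹ _, mul_assoc, mul_inv_cancel_left₀ this]
  let F : J ⥤ CommRingCat.{u} :=
    { obj := fun f => CommRingCat.of (A f)
      map := fun m => CommRingCat.ofHom (Subalgebra.inclusion (hA (leOfHom m))).toRingHom
      map_id := fun f => CommRingCat.hom_ext (RingHom.ext fun a => rfl)
      map_comp := fun m n => CommRingCat.hom_ext (RingHom.ext fun a => rfl) }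
  let σ : Cocone F :=
    { pt := CommRingCat.of L
      ι :=
        { app := fun f => CommRingCat.ofHom (A f).val.toRingHom
          naturality := fun f g m => CommRingCat.hom_ext (RingHom.ext fun a => rfl) } }
  let ν : (Functor.const J).obj c.R ⟶ F :=
    { app := fun f => CommRingCat.ofHom (algebraMap c.R (A f))
      naturality := fun f g m => CommRingCat.hom_ext (RingHom.ext fun a => rfl) }
  have hσ : IsColimit σ := by
    refine isColimitOfJointly σ (fun x => ?_) fun f g a b hab => ?_
    · obtain ⟨a, b, hb, rfl⟩ := IsFractionRing.div_surjective c.R x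
      let j : J := ⟨b, nonZeroDivisors.ne_zero hb⟩
      exact ⟨j, ⟨_, ⟨a, b, Submonoid.mem_powers b, (div_eq_mul_inv _ _)⟩⟩, rfl⟩
    · obtain ⟨k, hf, hg⟩ := exists_ge_ge f g
      exact ⟨k, homOfLE hf, homOfLE hg, Subtype.ext hab⟩
  let j₀ : J := ⟨1, one_ne_zero⟩
  have e : ν.app j₀ ≫ σ.ι.app j₀ = CommRingCat.ofHom (algebraMap c.R L) :=
    CommRingCat.hom_ext (RingHom.ext fun a => rfl)
  obtain ⟨j, hj⟩ := exists_aff_stage hX hqc hqs c hσ ν j₀ (by rw [e]; exact h)
  refine ⟨j.1, _, ν.app j, j.2, ?_, hj⟩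
  have : IsLocalization (Submonoid.powers (j : c.R)) (A j) :=
    Localization.subalgebra.isLocalization_ofField L _ _
  show @IsLocalization _ _ (Submonoid.powers (j : c.R)) (A j) _ (algebraMap c.R (A j)).toAlgebra
  rw [show (algebraMap c.R (A j)).toAlgebra = (inferInstance : Algebra c.R (A j)) from
    Algebra.algebra_ext _ _ fun a => rfl]
  exact this

end

end Groth.AlgSp2.Serre
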