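import Groth.Agent.AlgSp2.Serre.Field
import Groth.Agent.AlgSp2.Serre.LimitStage
import Groth.Agent.AlgSp2.Serre.Gluing
import Groth.Agent.AlgSp3.RedInduced
import Groth.Agent.AlgSp3.ImmersionImage
import Mathlib.RingTheory.Localization.Away.Basic

/-!
# A criterion for a space to be affine
-/

set_option autoImplicit false
set_option linter.unusedSectionVars false
set_option linter.style.haveILetI false
set_option backward.isDefEq.respectTransparency.types false
universe u

open CategoryTheory CategoryTheory.Limits AlgebraicGeometry Opposite TopologicalSpace AlgSp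

namespace Groth.AlgSp2.Serre

open Groth.AlgSpBasic

noncomputable section

variable {S : Scheme.{u}} [QuasiSeparatedSpace S] {X : Sp S}

/-- Every nonzero invariant function cuts out an affine closed subspace. -/
def Almost (c : Chart X) : Prop :=
  ∀ g : c.R, g ≠ 0 → Aff (bcSp c (quot c (Ideal.span {g})))

theorem aff_quot_mono (c : Chart X) {I J : Ideal c.R} (hIJ : I ≤ J)
    (h : Aff (bcSp c (quot c I))) : Aff (bcSp c (quot c J)) := by
  obtain ⟨c', z, -, -, hres, -⟩ := exists_bcChart c (quot c J)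
  obtain ⟨l, hl⟩ := exists_lift_quot c c' (repWith_closed_quot c J) (J := I) fun a ha => by
    rw [RingHom.mem_ker, hres]
    show z (Ideal.Quotient.mk J a) = 0
    rw [Ideal.Quotient.eq_zero_iff_mem.2 (hIJ ha), map_zero]
  exact h.of_closed hl

theorem almost_of_closed (hX : IsAlgSpace X) (hH : Hyp X) (c : Chart X) {Z : Sp S} {i : Z ⟶ X}
    (hi : RepWith @IsClosedImmersion i) (c₂ : Chart Z)
    (h : ∀ a, c.res c₂ i a ≠ 0 →
      Aff (bcSp c (quot c (Ideal.span {a} ⊔ RingHom.ker (c.res c₂ i).hom)))) : Almost c₂ := by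
  intro g hg
  obtain ⟨a, rfl⟩ := hH.res_surjective hX hi c c₂ g
  obtain ⟨c₃, z, -, -, hres, -⟩ := exists_bcChart c₂ (quot c₂ (Ideal.span {c.res c₂ i a}))
  obtain ⟨l, hl⟩ := exists_lift_quot c c₃ (repWith_comp (repWith_closed_quot c₂ _) hi)
    (J := Ideal.span {a} ⊔ RingHom.ker (c.res c₂ i).hom) (by
      refine sup_le ?_ fun b hb => ?_
      · rw [Ideal.span_singleton_le_iff_mem, RingHom.mem_ker, c.res_res c₂, hres]
        show z (Ideal.Quotient.mk _ (c.res c₂ i a)) = 0
        rw [Ideal.Quotient.eq_zero_iff_mem.2 (Ideal.mem_span_singleton_self _), map_zero]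
      · rw [RingHom.mem_ker, c.res_res c₂, CommRingCat.hom_comp, RingHom.comp_apply,
          RingHom.mem_ker.1 hb, map_zero])
  exact (h a hg).of_closed hl

theorem aff_congr (c : Chart X) {C C' : CommRingCat.{u}} {ψ : c.R ⟶ C} {ψ' : c.R ⟶ C'}
    (θ : C' ≅ C) (hθ : ψ' ≫ θ.hom = ψ) (h : Aff (bcSp c ψ)) : Aff (bcSp c ψ') := by
  let m : bcSp c ψ ⟶ bcSp c ψ' := pullback.map _ _ _ _ (𝟙 _) ((K S).map θ.hom.op) (𝟙 _)
    (by simp) (by rw [Category.comp_id, ← Functor.map_comp, ← op_comp, hθ])
  exact h.of_iso (asIso m)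

/-- The base change of a closed subspace with the same invariant functions. -/
theorem aff_res (c : Chart X) {Z : Sp S} {i : Z ⟶ X} (hi : RepWith @IsClosedImmersion i)
    (c₂ : Chart Z) [IsIso (c.res c₂ i)] {C : CommRingCat.{u}} {ψ : c.R ⟶ C}
    (h : Aff (bcSp c ψ)) : Aff (bcSp c₂ (inv (c.res c₂ i) ≫ ψ)) := by
  let ψ₂ := inv (c.res c₂ i) ≫ ψ
  have hψ : (K S).map ψ.op = (K S).map ψ₂.op ≫ (K S).map (c.res c₂ i).op := by
    rw [← Functor.map_comp, ← op_comp, IsIso.hom_inv_id_assoc]
  have e : IsPullback (bcFst c₂ ψ₂) (pullback.snd _ _) (i ≫ c.canon) ((K S).map ψ.op) := by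
    rw [← c.canon_res c₂ i, hψ]
    refine (IsPullback.of_hasPullback c₂.canon ((K S).map ψ₂.op)).of_iso (Iso.refl _) (Iso.refl _)
      (Iso.refl _) (asIso ((K S).map (c.res c₂ i).op)) ?_ ?_ ?_ ?_ <;> simp
  let l : bcSp c₂ ψ₂ ⟶ bcSp c ψ := pullback.lift (bcFst c₂ ψ₂ ≫ i) (pullback.snd _ _)
    (by rw [Category.assoc]; exact e.w)
  have sq : IsPullback (bcFst c₂ ψ₂) l i (bcFst c ψ) := by
    refine IsPullback.of_bot ?_ (pullback.lift_fst _ _ _).symm (IsPullback.of_hasPullback _ _)
    rw [pullback.lift_snd]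
    exact e
  exact h.of_closed (repWith_of_isPullback sq hi)

theorem aff_quot_bot_iff (c : Chart X) : Aff (bcSp c (quot c ⊥)) → Aff X := fun h => by
  have : IsIso (quot c ⊥) := (ConcreteCategory.isIso_iff_bijective _).2
    ⟨fun a b hab => sub_eq_zero.1 (Ideal.mem_bot.1 (Ideal.Quotient.eq.1 hab)),
      Ideal.Quotient.mk_surjective⟩
  exact h.of_iso (asIso (bcFst c (quot c ⊥)))

/-- A space all of whose invariant functions cut out affine closed subspaces is affine. -/
theorem aff_of_almost (hX : IsAlgSpace X) (hqc : IsQuasiCompactSp X) (hqs : IsQuasiSeparatedSp X)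
    (hH : Hyp X) (c : Chart X) (halm : Almost c) : Aff X := by
  by_contra hn
  have : Nontrivial c.R := not_subsingleton_iff_nontrivial.1 fun h =>
    hn (aff_of_subsingleton hX c)
  have : NoZeroDivisors c.R := ⟨fun {a b} hab => by
    by_contra hne
    push_neg at hne
    refine hn (aff_of_two hX (repWith_closed_quot c _) (repWith_closed_quot c _)
      (halm a hne.1) (halm b hne.2) (Set.eq_univ_of_forall fun x => ?_))
    obtain ⟨u, rfl⟩ := surjective_ofPt_of_repWith c.surj x
    by_cases hu : u ∈ c.U.left.basicOpen (c.incl a)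
    · refine Or.inr (mem_range_quot c b fun hu' => ?_)
      have h0 : u ∈ c.U.left.basicOpen (c.incl a * c.incl b) := by
        rw [Scheme.basicOpen_mul]; exact ⟨hu, hu'⟩
      rw [← map_mul, hab, map_zero, Scheme.basicOpen_zero] at h0
      exact h0
    · exact Or.inl (mem_range_quot c a hu)⟩
  have : IsDomain c.R := NoZeroDivisors.to_isDomain _
  -- the generic base change is affine
  have hK : Aff (bcSp c (CommRingCat.ofHom (algebraMap c.R (FractionRing c.R)))) := by
    let ψ : c.R ⟶ CommRingCat.of (FractionRing c.R) :=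
      CommRingCat.ofHom (algebraMap c.R (FractionRing c.R))
    obtain ⟨c', z, v, w, -, -, h₁, h₂, htv, hsv⟩ := exists_bcChart c ψ
    have hz := bijective_of_flat c (RingHom.flat_algebraMap_iff.2 inferInstance) h₁ h₂ htv hsv
    have hX' := isAlgSpace_bcSp c hX ψ
    have hg := repWith_bcFst c ψ
    exact exists_iso_affine_of_isField hX'
      (Groth.AlgSp2.Approx.isQuasiCompactSp_of_affineMor hX' (isAffineMor_iff_repWith.2 hg) hX hqc)
      (Groth.AlgSp2.Approx.isQuasiSeparatedSp_of_affineMor hX' (isAffineMor_iff_repWith.2 hg) hqs)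
      (hH.of_affine hg) c'
      ((RingEquiv.ofBijective z.hom hz).symm.toMulEquiv.isField (Field.toIsField _))
  obtain ⟨f, C, ψ, hf0, hψ, hC⟩ := exists_aff_away hX hqc hqs c hK
  have h1 : Aff (bcSp c (CommRingCat.ofHom (algebraMap c.R (Localization.Away f)))) := by
    letI := ψ.hom.toAlgebra
    have : IsLocalization.Away f C := hψ
    exact aff_congr c (IsLocalization.algEquiv (Submonoid.powers f)
      (Localization.Away f) C).toRingEquiv.toCommRingCatIso
      (CommRingCat.hom_ext (RingHom.ext fun a =>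
        (IsLocalization.algEquiv (Submonoid.powers f) (Localization.Away f) C).commutes a)) hC
  -- the closure of the locus where the function is invertible
  let D : Set ↥c.U.left := c.U.left.basicOpen (c.incl f)
  let C₀ : Set (Points X) := closure (Points.ofPt c.φ '' D)
  have hpre : Points.ofPt c.φ ⁻¹' C₀ = closure D := by
    rw [(isOpenMap_ofPt_of_etale c.et).preimage_closure_eq_closure_preimage
      (Points.continuous_ofPt c.φ)]
    congr 1
    ext u
    exact ⟨fun ⟨u', hu', he⟩ => (mem_basicOpen_iff_of_ofPt_eq hX c f he).1 hu',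
      fun hu => ⟨u, hu, rfl⟩⟩
  obtain ⟨Z, i, hZ, hi, hrange, hred⟩ :=
    Groth.AlgSp3.exists_isRedInduced hX (C := C₀) isClosed_closure
  obtain ⟨c₂, v, w, sqV, -, -, -⟩ := c.exists_pull (repWith_isAffineHom_of_closed hi)
  have hnZ : ¬ Aff Z := fun h => hn <| aff_of_two hX hi (repWith_closed_quot c _) h
    (halm f hf0) (Set.eq_univ_of_forall fun x => by
      obtain ⟨u, rfl⟩ := surjective_ofPt_of_repWith c.surj x
      by_cases hu : u ∈ c.U.left.basicOpen (c.incl f)
      · exact Or.inl (hrange.ge (subset_closure ⟨u, hu, rfl⟩))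
      · exact Or.inr (mem_range_quot c f hu))
  have hbij : Function.Bijective (c.res c₂ i) := by
    refine ⟨(injective_iff_map_eq_zero (c.res c₂ i).hom).2 fun a ha => ?_,
      hH.res_surjective hX hi c c₂⟩
    by_contra ha0
    obtain ⟨l, hl⟩ := exists_lift_quot c c₂ hi (J := Ideal.span {a})
      ((Ideal.span_singleton_le_iff_mem _).2 ha)
    exact hnZ ((halm a ha0).of_closed hl)
  have : IsIso (c.res c₂ i) := (ConcreteCategory.isIso_iff_bijective _).2 hbij
  let e : c.R ≃+* c₂.R := RingEquiv.ofBijective (c.res c₂ i).hom hbij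
  have : IsDomain c₂.R := e.symm.toMulEquiv.isDomain
  have halm₂ : Almost c₂ := almost_of_closed hX hH c hi c₂ fun a ha =>
    aff_quot_mono c le_sup_left (halm a fun h0 => ha (by rw [h0, map_zero]))
  let f₂ : c₂.R := c.res c₂ i f
  have hf₂ : f₂ ≠ 0 := fun h => hf0 (hbij.1 (h.trans (map_zero _).symm))
  have hmap : (Submonoid.powers f).map e.toMonoidHom = Submonoid.powers f₂ := by
    rw [Submonoid.map_powers]; rfl
  let E : Localization.Away f ≃+* Localization.Away f₂ :=
    IsLocalization.ringEquivOfRingEquiv _ _ e hmap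
  have h2 : Aff (bcSp c₂ (CommRingCat.ofHom (algebraMap c₂.R (Localization.Away f₂)))) := by
    refine aff_congr c₂ (E.symm.toCommRingCatIso) ?_ (aff_res c hi c₂ h1)
    rw [IsIso.eq_inv_comp]
    refine CommRingCat.hom_ext (RingHom.ext fun a => E.injective ?_)
    show E (E.symm (algebraMap _ _ (c.res c₂ i a))) = E (algebraMap _ _ a)
    rw [RingEquiv.apply_symm_apply]
    exact (IsLocalization.ringEquivOfRingEquiv_eq hmap a).symm
  have hincl : c₂.incl f₂ = v.left.appTop (c.incl f) := by
    have := congr($(c.toΓ_chart_res c₂ i) f)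
    rw [← Category.assoc, sqV.w, Category.assoc, toΓ_comp, c.toΓ_canon] at this
    exact this.symm
  have : IsReduced c₂.U.left := Groth.AlgSp3.isReduced_etale_chart hZ hred c₂.et
  have hv : IsClosedImmersion v.left := hi.property _ _ v sqV
  have hrv : Set.range v.left = closure D := by
    rw [range_left_eq_preimage sqV, hrange, hpre]
  have hreg : ∀ b, c₂.incl f₂ * b = 0 → b = 0 := by
    intro b hb
    rw [← basicOpen_eq_bot_iff]
    by_contra hne
    obtain ⟨x, hx⟩ : ((c₂.U.left.basicOpen b : Set ↥c₂.U.left)).Nonempty :=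
      Set.nonempty_iff_ne_empty.2 fun h => hne (SetLike.coe_injective (by simpa using h))
    obtain ⟨O, hO, hOb⟩ := v.left.isClosedEmbedding.isInducing.isOpen_iff.1
      (c₂.U.left.basicOpen b).2
    have hxO : v.left x ∈ O := by
      have : x ∈ v.left ⁻¹' O := hOb.symm ▸ hx
      exact this
    obtain ⟨d, hdO, hdD⟩ := mem_closure_iff.1 (hrv.le ⟨x, rfl⟩) O hO hxO
    obtain ⟨y, rfl⟩ := hrv.ge (subset_closure hdD)
    have hyb : y ∈ c₂.U.left.basicOpen b := by
      show y ∈ (c₂.U.left.basicOpen b).carrier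
      rw [← hOb]; exact hdO
    have hyf : y ∈ c₂.U.left.basicOpen (c₂.incl f₂) := by
      rw [hincl, ← Scheme.preimage_basicOpen_top]; exact hdD
    have h0 : y ∈ c₂.U.left.basicOpen (c₂.incl f₂ * b) := by
      rw [Scheme.basicOpen_mul]; exact ⟨hyf, hyb⟩
    rw [hb, Scheme.basicOpen_zero] at h0
    exact h0
  have hg := repWith_isAffineHom_of_closed hi
  exact hnZ (aff_of_regular hZ
    (Groth.AlgSp2.Approx.isQuasiSeparatedSp_of_affineMor hZ (isAffineMor_iff_repWith.2 hg) hqs)
    (hH.of_affine hg) c₂ f₂ (mem_nonZeroDivisors_of_ne_zero hf₂) hreg (halm₂ f₂ hf₂) h2)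

/-- A quasi-compact quasi-separated space on which functions extend from closed subspaces of
spaces affine over it is affine. -/
theorem exists_iso_affine_of_hyp (hX : IsAlgSpace X) (hqc : IsQuasiCompactSp X)
    (hqs : IsQuasiSeparatedSp X) (hH : Hyp X) :
    ∃ T : Over S, IsAffine T.left ∧ Nonempty ((yon S).obj T ≅ X) := by
  obtain ⟨c⟩ := nonempty_chart hX hqc hqs
  by_contra hn
  have hbot : ¬ Aff (bcSp c (quot c ⊥)) := fun h => hn (aff_quot_bot_iff c h)
  obtain ⟨m, hm⟩ := zorn_le₀ {J : Ideal c.R | ¬ Aff (bcSp c (quot c J))} fun s hs hchain => by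
    rcases s.eq_empty_or_nonempty with rfl | hne
    · exact ⟨⊥, hbot, fun z hz => hz.elim⟩
    · refine ⟨sSup s, fun h => ?_, fun J hJ => le_sSup hJ⟩
      obtain ⟨J, hJ, hJ'⟩ := exists_aff_of_chain hX hqc hqs c hchain hne h
      exact hs hJ hJ'
  obtain ⟨c₁, z, -, -, hres, -⟩ := exists_bcChart c (quot c m)
  have hg := repWith_bcFst c (quot c m)
  have hX₁ := isAlgSpace_bcSp c hX (quot c m)
  refine hm.prop (aff_of_almost hX₁
    (Groth.AlgSp2.Approx.isQuasiCompactSp_of_affineMor hX₁ (isAffineMor_iff_repWith.2 hg) hX hqc)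
    (Groth.AlgSp2.Approx.isQuasiSeparatedSp_of_affineMor hX₁ (isAffineMor_iff_repWith.2 hg) hqs)
    (hH.of_affine hg) c₁
    (almost_of_closed hX hH c (repWith_closed_quot c m) c₁ fun a ha => ?_))
  by_contra hna
  have hle : m ≤ RingHom.ker (c.res c₁ (bcFst c (quot c m))).hom := fun b hb => by
    rw [RingHom.mem_ker, hres]
    show z (Ideal.Quotient.mk m b) = 0
    rw [Ideal.Quotient.eq_zero_iff_mem.2 hb, map_zero]
  have hle' := hm.le_of_ge hna (hle.trans le_sup_right)
  exact ha (hle (hle' (Ideal.mem_sup_left (Ideal.mem_span_singleton_self a))))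

end

end Groth.AlgSp2.Serre
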