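import Groth.Agent.AlgSp2.Serre.Cohom
import Groth.Agent.ModEtQCoh.CoherentUnion
import Groth.Agent.FlatMor2.AlgSpColim.Main
import Mathlib.CategoryTheory.Filtered.Final

/-!
# Vanishing of the first cohomology is detected on coherent modules
-/

set_option autoImplicit false
set_option linter.unusedSectionVars false
set_option linter.style.haveILetI false
set_option backward.isDefEq.respectTransparency.types false
universe u

open CategoryTheory CategoryTheory.Limits AlgebraicGeometry Opposite AlgSp

namespace Groth.AlgSp2.Serre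

open Groth.AlgSpBasic Groth.ModEtQCoh

noncomputable section

theorem preservesColimitsOfShape_toAbEt {S : Scheme.{u}} (X : Sp S) (J : Type (u + 1))
    [SmallCategory J] : PreservesColimitsOfShape J (toAbEt X) := by
  let R := OEtRing X
  let i := SheafOfModules.forget R ⋙ PresheafOfModules.restrictScalars (𝟙 R.obj)
  let a := PresheafOfModules.sheafification.{u + 1} (𝟙 R.obj)
  let adj := PresheafOfModules.sheafificationAdjunction.{u + 1} (𝟙 R.obj)
  have := adj.leftAdjoint_preservesColimits.{u + 1, u + 1}
  refine ⟨fun {F} => ?_⟩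
  have h : IsColimit ((a ⋙ SheafOfModules.toSheaf R).mapCocone (colimit.cocone (F ⋙ i))) :=
    isColimitOfPreserves (PresheafOfModules.toPresheaf R.obj ⋙ presheafToSheaf (etTop X) AddCommGrpCat.{u + 1})
      (colimit.isColimit (F ⋙ i))
  have : PreservesColimit ((F ⋙ i) ⋙ a) (SheafOfModules.toSheaf R) :=
    preservesColimit_of_preserves_colimit_cocone (isColimitOfPreserves a (colimit.isColimit (F ⋙ i))) h
  exact preservesColimit_of_iso_diagram (SheafOfModules.toSheaf R)
    (Functor.associator _ _ _ ≪≫ Functor.isoWhiskerLeft F (asIso adj.counit) ≪≫ F.rightUnitor)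

variable {S : Scheme.{u}} [QuasiSeparatedSpace S]

/-- If the first cohomology vanishes on coherent modules then it vanishes on quasi-coherent ones. -/
theorem h1_qcoh_of_h1_coherent (X : AlgSp.Space S) (hqc : IsQuasiCompactSp X.obj)
    (hqs : IsQuasiSeparatedSp X.obj) (hN : IsLocNoethSp X.obj)
    (h1 : ∀ M : ModEt X.obj, M.IsFinitePresentation → Subsingleton (HModEt X.obj M 1))
    (M : ModEt X.obj) (hM : M.IsQuasicoherent) : Subsingleton (HModEt X.obj M 1) := by
  obtain ⟨V, q, hV, hqe, hqs'⟩ := exists_affine_chart X.property hqc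
  let U : EtOver X.obj := EtOver.mk q hqe
  have : IsAffine U.obj.left.left := hV
  have hsurj : Function.Surjective (Points.ofPt U.obj.hom) := surjective_ofPt_of_repWith hqs'
  let J := Finset (sectModEt M U)
  have : IsFiltered J := by infer_instance
  let O : J → CoherentUnion.Coh M := fun F =>
    CoherentUnion.obj (↑F : Set (sectModEt M U)) X.property hqs hN hsurj F.finite_toSet
  have hthin : ∀ {A B : CoherentUnion.Coh M} (a b : A ⟶ B), a = b := fun a b =>
    ObjectProperty.hom_ext _ (Subsingleton.elim _ _)
  let Φ : J ⥤ CoherentUnion.Coh M :=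
    { obj := O
      map := fun {F F'} m => (CoherentUnion.exists_hom_obj_of_subset X.property hqs hN hsurj
        F.finite_toSet F'.finite_toSet (Finset.coe_subset.2 (leOfHom m))).some
      map_id := fun _ => hthin _ _
      map_comp := fun _ _ => hthin _ _ }
  have := CoherentUnion.isFiltered_coh (M := M) X.property hqs hN hsurj
  have : Φ.Final := Functor.final_of_exists_of_isFiltered Φ (fun N => by
    obtain ⟨F, hF, ⟨a⟩⟩ := CoherentUnion.exists_le_obj X.property hqs hN hsurj N
    obtain ⟨b⟩ := CoherentUnion.exists_hom_obj_of_subset X.property hqs hN hsurj hF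
      hF.toFinset.finite_toSet (by rw [Set.Finite.coe_toFinset])
    exact ⟨hF.toFinset, ⟨a ≫ b⟩⟩) (fun {N F} s s' => ⟨F, 𝟙 _, hthin _ _⟩)
  let P := ObjectProperty.ι
    (fun N : MonoOver M => SheafOfModules.IsFinitePresentation N.obj.left) ⋙ MonoOver.forget M
  have key := fun (c : Cocone (P ⋙ Over.forget M)) =>
    CoherentUnion.existsUnique_desc (U := U) X.property hqs hN hsurj
      (fun N => c.ι.app N) (fun A B f => c.w f)
  let hcol : IsColimit ((Over.forgetCocone M).whisker P) :=
    { desc := fun c => (key c).choose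
      fac := fun c N => (key c).choose_spec.1 N
      uniq := fun c m hm => (key c).choose_spec.2 m hm }
  have hJ := (Functor.Final.isColimitWhiskerEquiv Φ _).symm hcol
  have := preservesColimitsOfShape_toAbEt X.obj J
  have := Groth.FlatMor2.AlgSpColim.preservesColimitsOfShape_hEtF X hqc hqs J 1
  have h := isColimitOfPreserves (toAbEt X.obj ⋙ HEtF X.obj 1) hJ
  refine ⟨fun x y => ?_⟩
  obtain ⟨j, a, ha⟩ := Concrete.isColimit_exists_rep _ h x
  obtain ⟨k, b, hb⟩ := Concrete.isColimit_exists_rep _ h y
  have hz : ∀ (F : J) (c : HModEt X.obj (P.obj (Φ.obj F)).left 1), c = 0 := fun F c =>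
    (h1 _ (Φ.obj F).property).elim c 0
  rw [← ha, ← hb, show a = 0 from hz j a, show b = 0 from hz k b]
  exact (map_zero _).trans (map_zero _).symm

end

end Groth.AlgSp2.Serre
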